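import Cfsg.Agent.Lib.Pres.SU.Four.Params
import Cfsg.Agent.Lib.Pres.SubGens
import Cfsg.Agent.Lib.Classical.UnitaryGen

/-!
Presentations of the four dimensional special unitary group with twenty-five relations.
-/

set_option autoImplicit false

namespace CfsgLib.Pres.SU.Four

open Matrix CfsgLib.Classical CfsgLib.Classical.Unitary CfsgLib.Steinberg.R1Data
open CfsgLib.Pres CfsgLib.Pres.FieldAdd
open scoped MatrixGroups commutatorElement

variable {F : Type*} [Field F] {σ : F →+* F} {q : ℕ}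

theorem twist_mul (c : Fˣ) (g g' : SL(2, F)) :
    twist σ c (g * g') = twist σ c g * twist σ c g' := by
  refine Subtype.ext ?_
  show (twist σ c (g * g')).1 = (twist σ c g).1 * (twist σ c g').1
  have h1 : σ (c : F) ≠ 0 := by simp
  ext i j
  fin_cases i <;> fin_cases j <;>
    simp [SpecialLinearGroup.coe_mul, Matrix.mul_apply, Fin.sum_univ_two] <;> field_simp

theorem twist_one (c : Fˣ) : twist σ c (1 : SL(2, F)) = 1 := by
  refine Subtype.ext ?_
  show (twist σ c (1 : SL(2, F))).1 = 1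
  ext i j
  fin_cases i <;> fin_cases j <;> simp

/-- The twist as a homomorphism. -/
def twistHom (σ : F →+* F) (c : Fˣ) : SL(2, F) →* SL(2, F) where
  toFun := twist σ c
  map_one' := twist_one c
  map_mul' := twist_mul c

theorem eq_of_pair {G X : Type*} [Group G] [Group X] {A B : G}
    (hAB : Subgroup.closure {A, B} = ⊤) (f₁ f₂ : G →* X) (hA : f₁ A = f₂ A) (hB : f₁ B = f₂ B)
    (g : G) : f₁ g = f₂ g :=
  DFunLike.congr_fun (MonoidHom.eq_of_eqOn_dense hAB fun x hx => by
    rcases hx with rfl | rfl <;> assumption) g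

theorem lift_cond {ι Y : Type*} [Group Y] (g : FreeGroup ι →* Y) (u m : FreeGroup ι)
    (v : FreeGroup Bool) :
    g (FreeGroup.lift (cond · u m) v) = FreeGroup.lift (cond · (g u) (g m)) v :=
  DFunLike.congr_fun (FreeGroup.ext_hom (g.comp (FreeGroup.lift (cond · u m)))
    (FreeGroup.lift (cond · (g u) (g m))) fun b => by cases b <;> simp) v

namespace Params

variable (P : Params σ)

open _root_.Classical in
/-- The word for a long root element. -/
noncomputable def awd {ι : Type} (uw mw : FreeGroup ι) (t : F) : FreeGroup ι :=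
  let lg : ℕ := if ht : ∃ i : ℕ, t = ((P.ω : F) * σ P.ω) ^ i then ht.choose else 0
  if t = 0 then 1 else mw ^ lg * uw * (mw ^ lg)⁻¹

theorem awd_val {ι : Type} {Y : Type*} [Group Y] (g : FreeGroup ι →* Y) (uw mw : FreeGroup ι)
    (a : F → Y) (h1 : a 1 = g uw)
    (hadd : ∀ s t, σ s = s → σ t = t → a s * a t = a (s + t))
    (hm : ∀ t, σ t = t → g mw * a t * (g mw)⁻¹ = a ((P.ω : F) * σ P.ω * t)) {t : F}
    (ht : σ t = t) : g (P.awd uw mw t) = a t := by
  have a0 : a 0 = 1 := by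
    have := hadd 0 0 (map_zero σ) (map_zero σ)
    rwa [add_zero, mul_eq_left] at this
  have hfixN : σ ((P.ω : F) * σ P.ω) = (P.ω : F) * σ P.ω := by rw [map_mul, P.hσ, mul_comm]
  have hpow : ∀ i : ℕ, g mw ^ i * a 1 * (g mw ^ i)⁻¹ = a (((P.ω : F) * σ P.ω) ^ i) := by
    intro i
    induction i with
    | zero => simp
    | succ i ih =>
      rw [pow_succ', pow_succ', ← hm _ (by rw [map_pow, hfixN]), ← ih]; group
  simp only [awd]
  split_ifs with h0 he
  · rw [h0, map_one, a0]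
  · rw [map_mul, map_mul, map_inv, map_pow, ← h1, hpow, ← he.choose_spec]
  · obtain ⟨y, hy⟩ := P.hN t ht h0
    obtain ⟨i, rfl⟩ := P.hω y
    exact absurd ⟨i, by rw [← hy, Units.val_pow_eq_pow_val, map_pow, mul_pow]⟩ he

/-- The thirteen further relations, evaluated. -/
def rels {Y : Type*} [Group Y] (A B : SL(2, F)) (φ : SL(2, F) → Y) (w : Y) (a : F → Y) : List Y :=
  let h := w * φ (dg P.ω) * w⁻¹
  [h * φ A * h⁻¹ * (φ (twist σ P.ω A))⁻¹, h * φ B * h⁻¹ * (φ (twist σ P.ω B))⁻¹,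
    w * φ (dg P.ξ) * w⁻¹ * (φ (dg P.ξ))⁻¹,
    w * w * (φ (dg P.y₀⁻¹) * (w * φ (dg P.y₀) * w⁻¹))⁻¹,
    ⁅w, φ wS * w * (φ wS)⁻¹⁆,
    φ (dg P.ω) * a 1 * (φ (dg P.ω))⁻¹ * (h⁻¹ * a 1 * h)⁻¹,
    a 1 * (w * a 1 * w⁻¹) * a 1 * w⁻¹,
    ⁅w, φ wS * a 1 * (φ wS)⁻¹⁆,
    w⁻¹ * φ wS * w * φ (up 1) * (w⁻¹ * φ wS * w)⁻¹ * (φ (up (-1)))⁻¹,
    ⁅φ (up 1), φ wS * a 1 * (φ wS)⁻¹⁆,
    ⁅φ (up 1), a 1⁆ * (w * φ (up (-1)) * w⁻¹ * (φ wS * a 1 * (φ wS)⁻¹))⁻¹,
    ⁅φ (up 1), w * φ (up 1) * w⁻¹⁆ * (φ wS * a (-2) * (φ wS)⁻¹)⁻¹,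
    ⁅φ (up 1), w * φ (up (P.ω : F)) * w⁻¹⁆ *
      (φ wS * a (-((P.ω : F) + σ P.ω)) * (φ wS)⁻¹)⁻¹]

theorem length_rels {Y : Type*} [Group Y] (A B : SL(2, F)) (φ : SL(2, F) → Y) (w : Y)
    (a : F → Y) : (P.rels A B φ w a).length = 13 := by simp [rels]

theorem map_rels {Y Z : Type*} [Group Y] [Group Z] (g : Y →* Z) (A B : SL(2, F))
    (φ : SL(2, F) → Y) (w : Y) (a : F → Y) :
    (P.rels A B φ w a).map g = P.rels A B (fun x => g (φ x)) (g w) (fun t => g (a t)) := by
  simp [rels, map_commutatorElement]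

theorem rels_congr {Y : Type*} [Group Y] (A B : SL(2, F)) (φ : SL(2, F) → Y) (w : Y) (a a' : F → Y)
    (e : ∀ t, σ t = t → a t = a' t) : P.rels A B φ w a = P.rels A B φ w a' := by
  simp only [rels, e 1 (map_one σ), e (-2) (by simp [map_ofNat]),
    e (-((P.ω : F) + σ P.ω)) (by simp [P.hσ, add_comm])]

theorem rels_data {X : Type*} [Group X] (A B : SL(2, F)) (H : Data σ P.ε P.ω P.ξ P.y₀ X) :
    ∀ y ∈ P.rels A B H.φ H.w H.v, y = 1 := by
  simp only [rels, List.forall_mem_cons, List.not_mem_nil, IsEmpty.forall_iff, implies_true,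
    and_true, commutatorElement_eq_one_iff_commute, mul_inv_eq_one]
  exact ⟨H.tw A, H.tw B, H.n1, H.w2, H.braid, H.Dv, H.wrel, H.wL, H.mA, H.c1, H.c2, H.c3, H.c4⟩

theorem exists_data {X : Type*} [Group X] {A B : SL(2, F)} (hAB : Subgroup.closure {A, B} = ⊤)
    (φ : SL(2, F) →* X) (w : X) (a : F → X) (π : X →* HU σ)
    (hπφ : ∀ g, π (φ g) = phiM σ P.hσ g) (hπw : π w = P.w)
    (hπa : ∀ t (ht : σ t = t), π (a t) = vM σ P.ε P.hε t ht)
    (hadd : ∀ s t, σ s = s → σ t = t → a s * a t = a (s + t))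
    (hh : ∀ t, σ t = t → w * φ (dg P.ω) * w⁻¹ * a t * (w * φ (dg P.ω) * w⁻¹)⁻¹ =
      a ((P.ω : F) * σ P.ω * t))
    (hR : ∀ y ∈ P.rels A B φ w a, y = 1) :
    ∃ H : Data σ P.ε P.ω P.ξ P.y₀ X, H.φ = φ ∧ H.w = w ∧ H.v = a ∧ H.π = π := by
  simp only [rels, List.forall_mem_cons, List.not_mem_nil, IsEmpty.forall_iff, implies_true,
    and_true, commutatorElement_eq_one_iff_commute, mul_inv_eq_one] at hR
  obtain ⟨htA, htB, hn1, hw2, hbraid, hDv, hwrel, hwL, hmA, hc1, hc2, hc3, hc4⟩ := hR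
  have htw : ∀ g, w * φ (dg P.ω) * w⁻¹ * φ g * (w * φ (dg P.ω) * w⁻¹)⁻¹ = φ (twist σ P.ω g) :=
    eq_of_pair hAB ((MulAut.conj (w * φ (dg P.ω) * w⁻¹)).toMonoidHom.comp φ)
      (φ.comp (twistHom σ P.ω)) htA htB
  exact ⟨{ hσ := P.hσ, hε := P.hε, hε0 := P.hε0, φ := φ, w := w, v := a, π := π, πφ := hπφ,
           πw := hπw, πv := hπa, hω := P.hω, hξ := P.hξ, hξN := P.hξN, hy₀ := P.hy₀, tw := htw,
           n1 := hn1, w2 := hw2, braid := hbraid, v_add := hadd, vh := hh, Dv := hDv,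
           wrel := hwrel, wL := hwL, mA := hmA, hN := P.hN, h2 := P.h2, hc := P.hc, hω2 := P.hω2,
           hωσ := P.hωσ, c1 := hc1, c2 := hc2, c3 := hc3, c4 := hc4 }, rfl, rfl, rfl, rfl⟩

theorem exists_pow_norm {t : F} (ht : σ t = t) (ht0 : t ≠ 0) :
    ∃ i : ℕ, t = ((P.ω : F) * σ P.ω) ^ i := by
  obtain ⟨y, hy⟩ := P.hN t ht ht0
  obtain ⟨i, rfl⟩ := P.hω y
  exact ⟨i, by rw [← hy, Units.val_pow_eq_pow_val, map_pow, mul_pow]⟩

/-- The fixed field with its multiplier. -/
theorem exists_fix_rels [Finite F] (hF : Nat.card F = q ^ 2) (h : UFrob σ q) :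
    ∃ L : List (FreeGroup Bool), L.length ≤ 4 ∧ (q = 2 → L.length ≤ 2) ∧
      (∀ (Y : Type*) [Group Y] (a : F → Y) (m : Y),
        (∀ s t, σ s = s → σ t = t → a s * a t = a (s + t)) →
        (∀ t, σ t = t → m * a t * m⁻¹ = a ((P.ω : F) * σ P.ω * t)) →
        ∀ w ∈ L, FreeGroup.lift (cond · (a 1) m) w = 1) ∧
      ∀ (X : Type) [Group X] (u m : X), (∀ w ∈ L, FreeGroup.lift (cond · u m) w = 1) →
        ∃ a : F → X, a 1 = u ∧ (∀ s t, σ s = s → σ t = t → a s * a t = a (s + t)) ∧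
          ∀ t, σ t = t → m * a t * m⁻¹ = a ((P.ω : F) * σ P.ω * t) := by
  classical
  have hfixN : σ ((P.ω : F) * σ P.ω) = (P.ω : F) * σ P.ω := by rw [map_mul, P.hσ, mul_comm]
  by_cases hq : q = 2
  · have hcard := fixed_card_eq hF h.pow
    rw [hq] at hcard
    have two : ∀ t, σ t = t → t = 0 ∨ t = 1 := by
      intro t ht
      have := Fintype.ofFinite (σ.eqLocusField (RingHom.id F))
      rw [Nat.card_eq_fintype_card] at hcard
      by_contra hne
      push Not at hne
      have hsub : ({0, 1, ⟨t, ht⟩} : Finset (σ.eqLocusField (RingHom.id F))).card = 3 := by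
        rw [Finset.card_insert_of_notMem, Finset.card_insert_of_notMem, Finset.card_singleton]
        · simp only [Finset.mem_singleton]
          exact fun e => hne.2 (congrArg Subtype.val e).symm
        · simp only [Finset.mem_insert, Finset.mem_singleton, not_or]
          exact ⟨zero_ne_one, fun e => hne.1 (congrArg Subtype.val e).symm⟩
      have := Finset.card_le_univ ({0, 1, ⟨t, ht⟩} : Finset (σ.eqLocusField (RingHom.id F)))
      omega
    have hN1 : (P.ω : F) * σ P.ω = 1 := (two _ hfixN).resolve_left (by simp)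
    have h2 : (1 : F) + 1 = 0 := (two (1 + 1) (by simp)).resolve_right fun e => one_ne_zero
      (by linear_combination e)
    refine ⟨[U * U, ⁅Hm, U⁆], by simp, fun _ => by simp, ?_, ?_⟩
    · intro Y _ a m hadd hm w hw
      have a0 : a 0 = 1 := by
        have := hadd 0 0 (map_zero σ) (map_zero σ)
        rwa [add_zero, mul_eq_left] at this
      simp only [List.mem_cons, List.not_mem_nil, or_false] at hw
      rcases hw with rfl | rfl
      · simp only [U, map_mul, FreeGroup.lift_apply_of, cond_true]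
        rw [hadd 1 1 (map_one σ) (map_one σ), h2, a0]
      · simp only [U, Hm, FreeGroup.lift_apply_of, cond_true, cond_false,
          commutatorElement_def, map_mul, map_inv]
        rw [hm 1 (map_one σ), hN1, mul_one, mul_inv_cancel]
    · intro X _ u m hw
      have hu := hw (U * U) (by simp)
      have hmu := hw ⁅Hm, U⁆ (by simp)
      simp only [U, map_mul, FreeGroup.lift_apply_of, cond_true] at hu
      simp only [U, Hm, map_commutatorElement, FreeGroup.lift_apply_of, cond_true, cond_false,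
        commutatorElement_eq_one_iff_commute] at hmu
      refine ⟨fun t => if t = 1 then u else 1, if_pos rfl, fun s t hs ht => ?_, fun t ht => ?_⟩
      · rcases two s hs with rfl | rfl <;> rcases two t ht with rfl | rfl <;> simp [h2, hu]
      · rw [hN1, one_mul]
        rcases two t ht with rfl | rfl <;> simp [hmu.eq]
  · obtain ⟨p, hp⟩ := CharP.exists F
    have : Fact p.Prime := ⟨CharP.char_is_prime F p⟩
    let K := σ.eqLocusField (RingHom.id F)
    have : CharP K p := K.subtype.charP K.subtype.injective p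
    obtain ⟨L, hL, hhold, huniv⟩ := FieldAdd.exists_rels (F := K) p
      (ω := ⟨(P.ω : F) * σ P.ω, hfixN⟩) fun t ht => by
        obtain ⟨i, hi⟩ := P.exists_pow_norm t.2 fun e => ht (Subtype.ext e)
        exact ⟨i, Subtype.ext (by simpa using hi)⟩
    refine ⟨L, hL, fun e => absurd e hq, fun Y _ a m hadd hm => ?_, fun X _ u m hw => ?_⟩
    · exact hhold Y (fun t : K => a t) m (fun t s => hadd _ _ t.2 s.2) fun t => hm _ t.2
    · obtain ⟨a', hadd, h1, -, hm⟩ := huniv X u m hw
      refine ⟨fun t => if ht : σ t = t then a' ⟨t, ht⟩ else 1, ?_, fun s t hs ht => ?_,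
        fun t ht => ?_⟩
      · simp only [map_one, dite_eq_ite, if_true]; exact h1
      · simp only [dif_pos hs, dif_pos ht, dif_pos (show σ (s + t) = s + t by rw [map_add, hs, ht])]
        exact hadd _ _
      · simp only [dif_pos ht, dif_pos (show σ ((P.ω : F) * σ P.ω * t) = (P.ω : F) * σ P.ω * t by
          rw [map_mul σ _ t, hfixN, ht])]
        exact hm _

set_option maxHeartbeats 800000 in
/-- A presentation of the group of two hyperbolic pairs. -/
theorem exists_pres [Finite F] (hF : Nat.card F = q ^ 2) (h : UFrob σ q) :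
    ∃ (f : Fin 3 ⊕ Bool → HU σ) (L : List (FreeGroup (Fin 3 ⊕ Bool))), L.length ≤ 25 ∧
      (q = 2 → L.length ≤ 20) ∧ PresData f L ∧ f (Sum.inr false) = P.w ∧ f (Sum.inr true) = P.vAll 1 ∧
      (∀ i, f (Sum.inl i) ∈ (phiM σ P.hσ).range) ∧
      Subgroup.closure (Set.range fun i => f (Sum.inl i)) = (phiM σ P.hσ).range := by
  classical
  have := Fintype.ofFinite F
  obtain ⟨fS, LS, hLS, hLS2, hS⟩ : ∃ (f : Fin 3 → SL(2, F)) (L : List (FreeGroup (Fin 3))),
      L.length ≤ 8 ∧ (q = 2 → L.length ≤ 5) ∧ PresData f L := by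
    by_cases hq : q = 2
    · have : CharP F 2 := CharTwo.of_one_ne_zero_of_two_eq_zero one_ne_zero
        (two_eq_zero_of_q_two hF hq)
      obtain ⟨f, L, hL, hd⟩ := SL2Short.sl_two (F := F)
      exact ⟨f, L, by omega, fun _ => hL, hd⟩
    · obtain ⟨f, L, hL, hd⟩ := SpW.exists_sl2 (F := F)
      exact ⟨f, L, hL, fun e => absurd e hq, hd⟩
  obtain ⟨A, B, hAB⟩ := SpW.exists_two (F := F)
  obtain ⟨LK, hLK, hLK2, hholdK, hunivK⟩ := P.exists_fix_rels hF h
  choose wSL hwSL using exists_word hS.2.1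
  let σS : FreeGroup (Fin 3) →* FreeGroup (Fin 3 ⊕ Bool) :=
    FreeGroup.lift fun i => FreeGroup.of (Sum.inl i)
  let φw : SL(2, F) → FreeGroup (Fin 3 ⊕ Bool) := fun g => σS (wSL g)
  let ww : FreeGroup (Fin 3 ⊕ Bool) := FreeGroup.of (Sum.inr false)
  let uw : FreeGroup (Fin 3 ⊕ Bool) := FreeGroup.of (Sum.inr true)
  let mw : FreeGroup (Fin 3 ⊕ Bool) := ww * φw (dg P.ω) * ww⁻¹
  let aw : F → FreeGroup (Fin 3 ⊕ Bool) := P.awd uw mw
  let σK : FreeGroup Bool →* FreeGroup (Fin 3 ⊕ Bool) := FreeGroup.lift (cond · uw mw)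
  let L : List (FreeGroup (Fin 3 ⊕ Bool)) :=
    LS.map σS ++ LK.map σK ++ P.rels A B φw ww aw
  have hlen : L.length = LS.length + LK.length + 13 := by simp [L, length_rels, add_assoc]
  let f : Fin 3 ⊕ Bool → HU σ :=
    Sum.elim (fun i => phiM σ P.hσ (fS i)) fun b => cond b (P.vAll 1) P.w
  have fφ : ∀ g, FreeGroup.lift f (φw g) = phiM σ P.hσ g := fun g => by
    conv_rhs => rw [← hwSL g]
    exact DFunLike.congr_fun (FreeGroup.ext_hom ((FreeGroup.lift f).comp σS)
      ((phiM σ P.hσ).comp (FreeGroup.lift fS)) fun i => by simp [σS, f]) (wSL g)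
  have fw : FreeGroup.lift f ww = P.w := by simp [ww, f]
  have fu : FreeGroup.lift f uw = P.vAll 1 := by simp [uw, f]
  have fm : FreeGroup.lift f mw = P.w * phiM σ P.hσ (dg P.ω) * P.w⁻¹ := by simp [mw, fφ, fw]
  have fa : ∀ t, σ t = t → FreeGroup.lift f (aw t) = P.vAll t :=
    fun t ht => P.awd_val (FreeGroup.lift f) uw mw P.vAll fu.symm P.model.v_add (fun t ht => by
      rw [fm]; exact P.model.vh t ht) ht
  have hhold : ∀ w ∈ L, FreeGroup.lift f w = 1 := by
    intro w hw
    simp only [L, List.mem_append, List.mem_map] at hw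
    rcases hw with (⟨v, hv, rfl⟩ | ⟨v, hv, rfl⟩) | hw
    · rw [show FreeGroup.lift f (σS v) = phiM σ P.hσ (FreeGroup.lift fS v) from
        DFunLike.congr_fun (FreeGroup.ext_hom ((FreeGroup.lift f).comp σS)
          ((phiM σ P.hσ).comp (FreeGroup.lift fS)) fun i => by simp [σS, f]) v, hS.1 v hv, map_one]
    · rw [lift_cond, fu, fm]
      exact hholdK _ P.vAll _ P.model.v_add P.model.vh v hv
    · refine P.rels_data A B P.model _ ?_
      have := List.mem_map_of_mem (f := FreeGroup.lift f) hw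
      rw [map_rels, fw, P.rels_congr _ _ _ _ _ _ fa] at this
      simp only [fφ] at this
      exact this
  set R : Set (FreeGroup (Fin 3 ⊕ Bool)) := {w | w ∈ L}
  let π : PresentedGroup R →* HU σ := PresentedGroup.toGroup fun w hw => hhold w hw
  have hx : ∀ w ∈ L, FreeGroup.lift (PresentedGroup.of (rels := R)) w = 1 := fun w hw => by
    rw [val_eq_lift]; exact PresentedGroup.one_of_mem hw
  set g := FreeGroup.lift (PresentedGroup.of (rels := R)) with hg
  obtain ⟨φ, hφ⟩ := hS.lift (PresentedGroup R) (fun i => PresentedGroup.of (Sum.inl i)) fun w hw => by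
    rw [← hx (σS w) (by simp only [L, List.mem_append, List.mem_map];
                        exact Or.inl (Or.inl ⟨w, hw, rfl⟩))]
    exact DFunLike.congr_fun (FreeGroup.ext_hom
      (FreeGroup.lift fun i => PresentedGroup.of (Sum.inl i)) (g.comp σS) fun i => by simp [σS, g]) w
  have gφ : ∀ x, g (φw x) = φ x := fun x => by
    conv_rhs => rw [← hwSL x]
    exact DFunLike.congr_fun (FreeGroup.ext_hom (g.comp σS) (φ.comp (FreeGroup.lift fS))
      fun i => by simp [σS, g, hφ]) (wSL x)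
  obtain ⟨a, a1, aadd, am⟩ := hunivK (PresentedGroup R) (g uw) (g mw) fun w hw => by
    rw [← lift_cond]
    exact hx _ (by simp only [L, List.mem_append, List.mem_map]; exact Or.inl (Or.inr ⟨w, hw, rfl⟩))
  have hπg : ∀ w, π (g w) = FreeGroup.lift f w := fun w =>
    DFunLike.congr_fun (FreeGroup.ext_hom (π.comp g) (FreeGroup.lift f) fun i => by
      show π (g (FreeGroup.of i)) = FreeGroup.lift f (FreeGroup.of i)
      simp only [g, FreeGroup.lift_apply_of]; exact PresentedGroup.toGroup.of _) w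
  have ga : ∀ t, σ t = t → g (aw t) = a t := fun t ht => P.awd_val g uw mw a a1 aadd am ht
  have gm : g mw = g ww * φ (dg P.ω) * (g ww)⁻¹ := by simp [mw, gφ]
  obtain ⟨H, eφ, ew, ev, eπ⟩ := P.exists_data hAB φ (g ww) a π
    (fun x => by rw [← gφ, hπg, fφ]) (by rw [hπg, fw])
    (fun t ht => by rw [← ga t ht, hπg, fa t ht, P.vAll_eq ht]) aadd
    (fun t ht => by rw [← gm]; exact am t ht) (fun y hy => by
      have hm : (P.rels A B φw ww aw).map g = P.rels A B φ (g ww) a := by
        rw [map_rels, P.rels_congr _ _ _ _ _ _ ga]; simp only [gφ]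
      rw [← hm] at hy
      obtain ⟨w, hw, rfl⟩ := List.mem_map.1 hy
      exact hx w (by simp only [L, List.mem_append]; exact Or.inr hw))
  have hbij : Function.Bijective π := by
    rw [← eπ]
    refine H.π_bijective ?_
    rw [eφ, ew, ev, eq_top_iff, ← PresentedGroup.closure_range_of R, Subgroup.closure_le]
    rintro _ ⟨i | b, rfl⟩
    · exact Subgroup.subset_closure (Or.inl (Or.inl ⟨fS i, hφ i⟩))
    · cases b
      · exact Subgroup.subset_closure (Or.inl (Or.inr (by simp [ww, g])))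
      · refine Subgroup.subset_closure (Or.inr ⟨1, map_one σ, ?_⟩)
        rw [a1]; simp [g, uw]
  let e := MulEquiv.ofBijective π hbij
  have hπof : ∀ i, π (PresentedGroup.of i) = f i := fun i => PresentedGroup.toGroup.of _
  refine ⟨f, L, by omega, fun e => by have := hLS2 e; have := hLK2 e; omega,
    ⟨hhold, ?_, fun Y _ x hxY _ => ?_⟩, rfl, rfl, fun i => ⟨fS i, rfl⟩, ?_⟩
  · rw [show Set.range f = e.toMonoidHom '' Set.range (PresentedGroup.of (rels := R)) by
      rw [← Set.range_comp]; exact congrArg Set.range (funext fun i => (hπof i).symm),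
      ← MonoidHom.map_closure, PresentedGroup.closure_range_of]
    exact Subgroup.map_top_of_surjective _ e.surjective
  · refine ⟨(PresentedGroup.toGroup (rels := R) fun w hw => hxY w hw).comp e.symm.toMonoidHom,
      fun i => ?_⟩
    have : e.symm (f i) = PresentedGroup.of i := by
      rw [MulEquiv.symm_apply_eq]; exact (hπof i).symm
    simp [this]
  · rw [show (Set.range fun i => f (Sum.inl i)) = phiM σ P.hσ '' Set.range fS by
      rw [← Set.range_comp]; rfl, ← MonoidHom.map_closure, hS.2.1, MonoidHom.range_eq_map]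

end Params

/-- Twenty-five relations on four generators. -/
theorem exists_four [Finite F] (hF : Nat.card F = q ^ 2) :
    ∃ (f : Fin 4 → Cfsg.SU 4 F q) (L : List (FreeGroup (Fin 4))), L.length ≤ 25 ∧
      (q = 2 → L.length ≤ 20) ∧ PresData f L := by
  obtain ⟨σ, h⟩ := exists_uFrob hF
  obtain ⟨P⟩ := exists_params hF h
  obtain ⟨f, L, hL, hL2, hd, hw, hv1, hmem, hcl⟩ := P.exists_pres hF h
  let g : Fin 4 → Fin 3 ⊕ Bool := Fin.snoc (fun i => Sum.inl i) (Sum.inr false)
  have hg : Function.Injective g := by decide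
  obtain ⟨L', hL', hd'⟩ := hd.subGens g hg (by
    set S := Subgroup.closure (Set.range (f ∘ g))
    have hwS : P.w ∈ S := Subgroup.subset_closure ⟨3, hw⟩
    have hφS : ∀ x, phiM σ P.hσ x ∈ S := fun x => by
      have : (phiM σ P.hσ).range ≤ S := by
        rw [← hcl, Subgroup.closure_le]
        rintro _ ⟨i, rfl⟩
        exact Subgroup.subset_closure ⟨i.castSucc, by simp [g]⟩
      exact this ⟨x, rfl⟩
    let H := P.model
    have hM : ∀ m, σ m = m → H.Mr m ∈ S := by
      intro m hm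
      obtain ⟨u, m₀, hm0, hne, he⟩ :
          ∃ u m₀, σ m₀ = m₀ ∧ m₀ ≠ 0 ∧ ⁅H.A 1, H.B u⁆ = H.Mr m₀ := by
        rcases H.two_or_trace with h | h
        · exact ⟨1, -2, by simp [map_ofNat], neg_ne_zero.2 h, H.c3⟩
        · exact ⟨_, _, by simp [H.hσ, add_comm], h, H.c4⟩
      have h0 : H.Mr m₀ ∈ S := by
        rw [← he, commutatorElement_def]
        exact S.mul_mem (S.mul_mem (S.mul_mem (hφS _) (S.mul_mem (S.mul_mem hwS (hφS _)) (S.inv_mem hwS)))
          (S.inv_mem (hφS _))) (S.inv_mem (S.mul_mem (S.mul_mem hwS (hφS _)) (S.inv_mem hwS)))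
      rcases eq_or_ne m 0 with rfl | hm0'
      · rw [H.Mr_zero]; exact S.one_mem
      obtain ⟨y, hy⟩ := H.hN (m / m₀) (by rw [map_div₀, hm, hm0]) (div_ne_zero hm0' hne)
      have := H.D_Mr H.hN y hm0
      rw [hy, div_mul_cancel₀ _ hne] at this
      rw [← this]
      exact S.mul_mem (S.mul_mem (hφS _) h0) (S.inv_mem (hφS _))
    have hv : P.vAll 1 ∈ S := by
      have h1 := S.mul_mem (S.mul_mem (S.inv_mem (hφS wS)) (hM 1 (map_one σ))) (hφS wS)
      have e : (phiM σ P.hσ wS)⁻¹ * H.Mr 1 * phiM σ P.hσ wS = P.vAll 1 := by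
        show (phiM σ P.hσ wS)⁻¹ * (phiM σ P.hσ wS * P.vAll 1 * (phiM σ P.hσ wS)⁻¹) * _ = _
        group
      rwa [e] at h1
    rw [eq_top_iff]
    intro x _
    obtain ⟨y, rfl⟩ := H.π_surjective x
    show y ∈ S
    have hgen : Subgroup.closure (Set.range f) ≤ S := by
      rw [Subgroup.closure_le]
      rintro _ ⟨i | b, rfl⟩
      · exact Subgroup.subset_closure ⟨i.castSucc, by simp [g]⟩
      · cases b
        · exact hw ▸ hwS
        · exact hv1 ▸ hv
    rw [hd.2.1] at hgen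
    exact hgen (Subgroup.mem_top y))
  obtain ⟨e⟩ := exists_iso hF h
  exact ⟨_, L', by omega, fun hq => by have := hL2 hq; omega, hd'.map e⟩

end CfsgLib.Pres.SU.Four
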