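import Cfsg.Agent.Lib.Pres.SU.Four.Roots

/-!
The commutator relations of the positive root subgroups, and the positive subgroup.
-/

set_option autoImplicit false

namespace CfsgLib.Pres.SU.Four

open Matrix CfsgLib.Classical CfsgLib.Classical.Unitary CfsgLib.Steinberg.R1Data
open scoped MatrixGroups commutatorElement

variable {F : Type*} [Field F] [Finite F] {σ : F →+* F}

namespace Data

variable {X : Type*} [Group X] {ε : F} {ω ξ y₀ : Fˣ} (H : Data σ ε ω ξ y₀ X)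

theorem DE_A (x y : Fˣ) (a : F) :
    (H.D x * H.E y) * H.A a * (H.D x * H.E y)⁻¹ = H.A ((x : F) * x * ((y : F) / σ y * a)) := by
  rw [← H.D_A, ← H.E_A]; group

theorem DE_B (x y : Fˣ) (a : F) :
    (H.D x * H.E y) * H.B a * (H.D x * H.E y)⁻¹ = H.B ((x : F) / σ x * ((y : F) * y * a)) := by
  rw [← H.D_B, ← H.E_B]; group

theorem DE_Mr (x y : Fˣ) {a : F} (ha : σ a = a) :
    (H.D x * H.E y) * H.Mr a * (H.D x * H.E y)⁻¹ =
      H.Mr ((x : F) * σ x * ((y : F) * σ y * a)) := by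
  rw [← H.D_Mr H.hN x (H.fix_norm_mul y ha), ← H.E_Mr H.hN y ha]; group

theorem DE_v (x y : Fˣ) {a : F} (ha : σ a = a) :
    (H.D x * H.E y) * H.v a * (H.D x * H.E y)⁻¹ =
      H.v (((x : F) * σ x)⁻¹ * ((y : F) * σ y * a)) := by
  rw [← H.D_v H.hN x (H.fix_norm_mul y ha), ← H.E_v y ha]; group

omit [Finite F] in
theorem comm_conj {a b : X} (h : Commute a b) (t : X) :
    Commute (t * a * t⁻¹) (t * b * t⁻¹) := by
  simpa using h.map (MulAut.conj t).toMonoidHom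

theorem A_Mr (a : F) {m : F} (hm : σ m = m) : Commute (H.A a) (H.Mr m) := by
  have h1 : σ (1 : F) = 1 := map_one σ
  have hadd : ∀ a b m, Commute (H.A a) (H.Mr m) → Commute (H.A b) (H.Mr m) →
      Commute (H.A (a + b)) (H.Mr m) := fun a b m ha hb => by
    rw [← H.A_add]; exact ha.mul_left hb
  have hk : ∀ k, σ k = k → Commute (H.A k) (H.Mr 1) := by
    intro k hk
    rcases eq_or_ne k 0 with rfl | h0
    · rw [H.A_zero]; exact Commute.one_left _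
    obtain ⟨y, hy⟩ := H.hN k⁻¹ (by rw [map_inv₀, hk]) (inv_ne_zero h0)
    have := comm_conj H.c1 (H.D y⁻¹ * H.E y)
    rw [H.DE_A, H.DE_Mr _ _ h1] at this
    have hne : σ (y : F) ≠ 0 := by simp
    rwa [show ((y⁻¹ : Fˣ) : F) * (y⁻¹ : Fˣ) * ((y : F) / σ y * 1) = k by
        rw [← inv_inv k, ← hy, Units.val_inv_eq_inv_val]; field_simp,
      show ((y⁻¹ : Fˣ) : F) * σ (y⁻¹ : Fˣ) * ((y : F) * σ y * 1) = 1 by
        rw [Units.val_inv_eq_inv_val, map_inv₀]; field_simp] at this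
  have hone : ∀ a, Commute (H.A a) (H.Mr 1) := by
    intro a
    obtain ⟨c, hcN, hc2⟩ := H.hc
    obtain ⟨k, k', h, h', rfl⟩ := split_fix hc2 H a
    refine hadd _ _ _ (hk k h) ?_
    have := comm_conj (hk k' h') (H.D c * H.E 1)
    rw [H.DE_A, H.DE_Mr _ _ h1] at this
    simp only [Units.val_one, map_one, div_one, mul_one, one_mul] at this
    rw [mul_comm k']
    rcases hcN with e | e
    · rwa [e] at this
    · rw [e, ← H.Mr_inv h1] at this
      simpa using this.inv_right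
  rcases eq_or_ne m 0 with rfl | h0
  · rw [H.Mr_zero]; exact Commute.one_right _
  obtain ⟨x, hx⟩ := H.hN m hm h0
  have := comm_conj (hone (a / ((x : F) * x))) (H.D x * H.E 1)
  rw [H.DE_A, H.DE_Mr _ _ h1] at this
  simp only [Units.val_one, map_one, div_one, mul_one, one_mul, hx] at this
  rwa [mul_div_cancel₀ _ (mul_ne_zero x.ne_zero x.ne_zero)] at this

theorem B_Mr (b : F) {m : F} (hm : σ m = m) : Commute (H.B b) (H.Mr m) := by
  rw [← H.w_Mr hm]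
  exact comm_conj (H.A_Mr b hm) H.w

theorem B_B (a b : F) : Commute (H.B a) (H.B b) := by
  show _ = _
  rw [H.B_add, H.B_add, add_comm]

theorem Mr_Mr {a b : F} (ha : σ a = a) (hb : σ b = b) : Commute (H.Mr a) (H.Mr b) := by
  show _ = _
  rw [H.Mr_add ha hb, H.Mr_add hb ha, add_comm]

theorem B_v (b : F) {l : F} (hl : σ l = l) : Commute (H.B b) (H.v l) := by
  have := comm_conj (H.B_Mr (-σ b) hl) H.n⁻¹
  rw [Base.Mr] at this
  convert this using 1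
  · rw [← H.n_B b]; group
  · group

/-- The subgroup of the root twice the first. -/
def RMr : Subgroup X where
  carrier := {x | ∃ a, σ a = a ∧ x = H.Mr a}
  one_mem' := ⟨0, map_zero σ, H.Mr_zero.symm⟩
  mul_mem' := by
    rintro _ _ ⟨a, ha, rfl⟩ ⟨b, hb, rfl⟩
    exact ⟨a + b, by rw [map_add, ha, hb], H.Mr_add ha hb⟩
  inv_mem' := by rintro _ ⟨a, ha, rfl⟩; exact ⟨-a, by rw [map_neg, ha], H.Mr_inv ha⟩

theorem conj_RMr (x y : Fˣ) {g : X} (hg : g ∈ H.RMr) :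
    (H.D x * H.E y) * g * (H.D x * H.E y)⁻¹ ∈ H.RMr := by
  obtain ⟨a, ha, rfl⟩ := hg
  exact ⟨_, H.fix_norm_mul x (H.fix_norm_mul y ha), H.DE_Mr x y ha⟩

theorem A_B (a b : F) : ⁅H.A a, H.B b⁆ ∈ H.RMr := by
  have addl : ∀ a a' b, ⁅H.A a, H.B b⁆ ∈ H.RMr → ⁅H.A a', H.B b⁆ ∈ H.RMr →
      ⁅H.A (a + a'), H.B b⁆ ∈ H.RMr := by
    rintro a a' b h ⟨m, hm, e⟩
    rw [← H.A_add, CfsgLib.Pres.SpW.comm_mul_left, e, (H.A_Mr a hm).eq, mul_inv_cancel_right]
    exact mul_mem ⟨m, hm, rfl⟩ h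
  have addr : ∀ a b b', ⁅H.A a, H.B b⁆ ∈ H.RMr → ⁅H.A a, H.B b'⁆ ∈ H.RMr →
      ⁅H.A a, H.B (b + b')⁆ ∈ H.RMr := by
    rintro a b b' h ⟨m, hm, e⟩
    rw [← H.B_add, CfsgLib.Pres.SpW.comm_mul_right, e, (H.B_Mr b hm).eq, mul_inv_cancel_right]
    exact mul_mem h ⟨m, hm, rfl⟩
  have zl : ∀ b, ⁅H.A 0, H.B b⁆ ∈ H.RMr := fun b => by
    rw [H.A_zero, commutatorElement_one_left]; exact one_mem _
  have zr : ∀ a, ⁅H.A a, H.B 0⁆ ∈ H.RMr := fun a => by
    rw [H.B_zero, commutatorElement_one_right]; exact one_mem _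
  have tor : ∀ a b (x y : Fˣ), ⁅H.A a, H.B b⁆ ∈ H.RMr →
      ⁅H.A ((x : F) * x * ((y : F) / σ y * a)), H.B ((x : F) / σ x * ((y : F) * y * b))⁆ ∈ H.RMr := by
    intro a b x y h
    have := H.conj_RMr x y h
    rwa [← MulAut.conj_apply, map_commutatorElement, MulAut.conj_apply, MulAut.conj_apply, H.DE_A,
      H.DE_B] at this
  have sl : ∀ a b k, σ k = k → ⁅H.A a, H.B b⁆ ∈ H.RMr → ⁅H.A (k * a), H.B b⁆ ∈ H.RMr := by
    intro a b k hk h
    refine H.of_fix_squares (Q := fun k => ⁅H.A (k * a), H.B b⁆ ∈ H.RMr) ?_ ?_ ?_ hk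
    · rw [zero_mul]; exact zl b
    · intro u v _ _ hu hv; rw [add_mul]; exact addl _ _ _ hu hv
    intro z hz h0
    have := tor a b (Units.mk0 z h0) 1 h
    simp only [Units.val_mk0, hz, Units.val_one, map_one, div_one, div_self h0, mul_one, one_mul] at this
    exact this
  have sr : ∀ a b k, σ k = k → ⁅H.A a, H.B b⁆ ∈ H.RMr → ⁅H.A a, H.B (k * b)⁆ ∈ H.RMr := by
    intro a b k hk h
    refine H.of_fix_squares (Q := fun k => ⁅H.A a, H.B (k * b)⁆ ∈ H.RMr) ?_ ?_ ?_ hk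
    · rw [zero_mul]; exact zr a
    · intro u v _ _ hu hv; rw [add_mul]; exact addr _ _ _ hu hv
    intro z hz h0
    have := tor a b 1 (Units.mk0 z h0) h
    simp only [Units.val_mk0, hz, Units.val_one, map_one, div_one, div_self h0, mul_one, one_mul] at this
    exact this
  have one_all : ∀ b, ⁅H.A 1, H.B b⁆ ∈ H.RMr := by
    intro b
    obtain ⟨k, k', h, h', rfl⟩ := split_fix H.hωσ H b
    refine addr _ _ _ ?_ ?_
    · have := sr 1 1 k h ⟨_, by simp [map_ofNat], H.c3⟩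
      rwa [mul_one] at this
    · exact sr 1 _ k' h' ⟨_, by simp [H.hσ, add_comm], H.c4⟩
  obtain ⟨k, k', h, h', rfl⟩ := split_fix H.hω2 H a
  refine addl _ _ _ ?_ ?_
  · have := sl 1 b k h (one_all b)
    rwa [mul_one] at this
  · refine sl _ b k' h' ?_
    have := tor 1 (b / ((ω : F) / σ ω)) ω 1 (one_all _)
    simp only [Units.val_one, map_one, div_one, mul_one, one_mul] at this
    rwa [mul_div_cancel₀ _ (by simp : (ω : F) / σ ω ≠ 0)] at this

theorem two_or_trace (H : Data σ ε ω ξ y₀ X) : (2 : F) ≠ 0 ∨ -((ω : F) + σ ω) ≠ 0 := by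
  refine or_iff_not_imp_left.2 fun h e => H.hωσ ?_
  have h2 : (2 : F) = 0 := not_not.1 h
  linear_combination -e - (ω : F) * h2

theorem Mr_v {m l : F} (hm : σ m = m) (hl : σ l = l) : Commute (H.Mr m) (H.v l) := by
  have h1 : σ (1 : F) = 1 := map_one σ
  obtain ⟨u, m₀, hm0, hne, he⟩ : ∃ u m₀, σ m₀ = m₀ ∧ m₀ ≠ 0 ∧ ⁅H.A 1, H.B u⁆ = H.Mr m₀ := by
    rcases H.two_or_trace with h | h
    · exact ⟨1, -2, by simp [map_ofNat], neg_ne_zero.2 h, H.c3⟩
    · exact ⟨_, _, by simp [H.hσ, add_comm], h, H.c4⟩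
  have start : Commute (H.Mr m₀) (H.v 1) := by
    have ev : H.v 1 * H.A 1 * (H.v 1)⁻¹ = (H.B (-1) * H.Mr 1)⁻¹ * H.A 1 := by
      rw [← H.c2, commutatorElement_def]; group
    have eB : H.v 1 * H.B u * (H.v 1)⁻¹ = H.B u := by
      rw [← (H.B_v u h1).eq]; group
    refine Commute.symm (mul_inv_eq_iff_eq_mul.1 ?_)
    conv_rhs => rw [← he]
    rw [← he, ← MulAut.conj_apply, map_commutatorElement, MulAut.conj_apply, MulAut.conj_apply, ev, eB,
      CfsgLib.Pres.SpW.comm_mul_left, he]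
    have c : Commute (H.B (-1) * H.Mr 1)⁻¹ (H.Mr m₀) :=
      ((H.B_Mr _ hm0).mul_left (H.Mr_Mr h1 hm0)).inv_left
    have c' : ⁅(H.B (-1) * H.Mr 1)⁻¹, H.B u⁆ = 1 := commutatorElement_eq_one_iff_commute.2
      ((H.B_B _ _).mul_left (H.B_Mr _ h1).symm).inv_left
    rw [c', mul_one, c.eq, mul_inv_cancel_right]
  have sm : ∀ m', σ m' = m' → Commute (H.Mr (m' * m₀)) (H.v 1) := by
    intro m' hm'
    refine H.of_fix_squares (Q := fun k => Commute (H.Mr (k * m₀)) (H.v 1)) ?_ ?_ ?_ hm'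
    · rw [zero_mul, H.Mr_zero]; exact Commute.one_left _
    · intro a b ha hb hQa hQb
      rw [add_mul, ← H.Mr_add (by rw [map_mul, ha, hm0]) (by rw [map_mul, hb, hm0])]
      exact hQa.mul_left hQb
    intro z hz h0
    obtain ⟨x, hx⟩ := H.hN z hz h0
    have := comm_conj start (H.D x * H.E x)
    rw [H.DE_Mr _ _ hm0, H.DE_v _ _ h1, hx] at this
    simpa [h0, mul_assoc] using this
  rcases eq_or_ne l 0 with rfl | h0
  · rw [H.v_zero]; exact Commute.one_right _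
  obtain ⟨y, hy⟩ := H.hN l hl h0
  have hm' : σ (m / l / m₀) = m / l / m₀ := by rw [map_div₀, map_div₀, hm, hl, hm0]
  have := comm_conj (sm _ hm') (H.D 1 * H.E y)
  rw [H.DE_Mr _ _ (by rw [map_mul, hm', hm0]), H.DE_v _ _ h1, hy] at this
  simp only [Units.val_one, map_one, inv_one, mul_one, one_mul, div_mul_cancel₀ _ hne] at this
  rwa [mul_div_cancel₀ _ h0] at this

/-- The normal subgroup of the two roots containing the first short root. -/
def BM : Subgroup X where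
  carrier := {x | ∃ b m, σ m = m ∧ x = H.B b * H.Mr m}
  one_mem' := ⟨0, 0, map_zero σ, by rw [H.B_zero, H.Mr_zero, one_mul]⟩
  mul_mem' := by
    rintro _ _ ⟨b, m, hm, rfl⟩ ⟨b', m', hm', rfl⟩
    exact ⟨b + b', m + m', by rw [map_add, hm, hm'], by
      rw [← H.B_add, ← H.Mr_add hm hm', (H.B_Mr b' hm).symm.mul_mul_mul_comm]⟩
  inv_mem' := by
    rintro _ ⟨b, m, hm, rfl⟩
    exact ⟨-b, -m, by rw [map_neg, hm], by
      rw [_root_.mul_inv_rev, H.B_inv, H.Mr_inv hm, (H.B_Mr _ (by rw [map_neg, hm])).eq]⟩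

theorem RMr_le : H.RMr ≤ H.BM := fun _ ⟨m, hm, e⟩ => ⟨0, m, hm, by rw [H.B_zero, one_mul]; exact e⟩

theorem B_mem (b : F) : H.B b ∈ H.BM := ⟨b, 0, map_zero σ, by rw [H.Mr_zero, mul_one]⟩

theorem Mr_mem {m : F} (hm : σ m = m) : H.Mr m ∈ H.BM := H.RMr_le ⟨m, hm, rfl⟩

theorem A_conj_BM (a : F) {g : X} (hg : g ∈ H.BM) : H.A a * g * (H.A a)⁻¹ ∈ H.BM := by
  obtain ⟨b, m, hm, rfl⟩ := hg
  rw [show H.A a * (H.B b * H.Mr m) * (H.A a)⁻¹ =
    ⁅H.A a, H.B b⁆ * H.B b * (H.A a * H.Mr m * (H.A a)⁻¹) by rw [commutatorElement_def]; group,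
    (H.A_Mr a hm).eq, mul_inv_cancel_right]
  exact mul_mem (mul_mem (H.RMr_le (H.A_B a b)) (H.B_mem b)) (H.Mr_mem hm)

theorem BM_v {g : X} (hg : g ∈ H.BM) {l : F} (hl : σ l = l) : Commute g (H.v l) := by
  obtain ⟨b, m, hm, rfl⟩ := hg
  exact (H.B_v b hl).mul_left (H.Mr_v hm hl)

theorem DE_BM (x y : Fˣ) {g : X} (hg : g ∈ H.BM) :
    (H.D x * H.E y) * g * (H.D x * H.E y)⁻¹ ∈ H.BM := by
  obtain ⟨b, m, hm, rfl⟩ := hg
  exact ⟨_, _, H.fix_norm_mul x (H.fix_norm_mul y hm), by rw [← conj_mul, H.DE_B, H.DE_Mr x y hm]⟩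

theorem A_v (a : F) {l : F} (hl : σ l = l) : ⁅H.A a, H.v l⁆ ∈ H.BM := by
  have h1 : σ (1 : F) = 1 := map_one σ
  have addl : ∀ a a' l, ⁅H.A a, H.v l⁆ ∈ H.BM → ⁅H.A a', H.v l⁆ ∈ H.BM →
      ⁅H.A (a + a'), H.v l⁆ ∈ H.BM := by
    intro a a' l h h'
    rw [← H.A_add, CfsgLib.Pres.SpW.comm_mul_left]
    exact mul_mem (H.A_conj_BM a h') h
  have negr : ∀ a l, σ l = l → ⁅H.A a, H.v l⁆ ∈ H.BM → ⁅H.A a, H.v (-l)⁆ ∈ H.BM := by
    intro a l hl h
    rw [← H.v_inv hl, show ⁅H.A a, (H.v l)⁻¹⁆ = (H.v l)⁻¹ * ⁅H.A a, H.v l⁆⁻¹ * H.v l by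
      simp only [commutatorElement_def]; group,
      mul_assoc, ((H.BM_v (inv_mem h) hl)).eq, ← mul_assoc, inv_mul_cancel, one_mul]
    exact inv_mem h
  have tor : ∀ a l (x y : Fˣ), σ l = l → ⁅H.A a, H.v l⁆ ∈ H.BM →
      ⁅H.A ((x : F) * x * ((y : F) / σ y * a)), H.v (((x : F) * σ x)⁻¹ * ((y : F) * σ y * l))⁆ ∈ H.BM := by
    intro a l x y hl h
    have := H.DE_BM x y h
    rwa [← MulAut.conj_apply, map_commutatorElement, MulAut.conj_apply, MulAut.conj_apply, H.DE_A,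
      H.DE_v _ _ hl] at this
  have hk : ∀ k, σ k = k → ⁅H.A k, H.v 1⁆ ∈ H.BM := by
    intro k hk
    refine H.of_fix_squares (Q := fun k => ⁅H.A k, H.v 1⁆ ∈ H.BM) ?_ ?_ ?_ hk
    · rw [H.A_zero, commutatorElement_one_left]; exact one_mem _
    · exact fun u v _ _ hu hv => addl _ _ _ hu hv
    intro z hz h0
    have := tor 1 1 (Units.mk0 z h0) (Units.mk0 z h0) h1
      (by rw [H.c2]; exact mul_mem (H.B_mem _) (H.Mr_mem h1))
    simp only [Units.val_mk0, hz, div_self h0, mul_one] at this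
    rwa [inv_mul_cancel₀ (mul_ne_zero h0 h0)] at this
  have hone : ∀ a, ⁅H.A a, H.v 1⁆ ∈ H.BM := by
    intro a
    obtain ⟨c, hcN, hc2⟩ := H.hc
    obtain ⟨k, k', h, h', rfl⟩ := split_fix hc2 H a
    refine addl _ _ _ (hk k h) ?_
    have hN0 : (c : F) * σ c ≠ 0 := by simp
    have := tor ((c : F) * σ c * k') 1 1 c h1 (hk _ (H.fix_norm_mul c h'))
    simp only [Units.val_one, map_one, inv_one, mul_one, one_mul] at this
    rw [show (c : F) / σ c * ((c : F) * σ c * k') = k' * ((c : F) * c) by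
      have : σ (c : F) ≠ 0 := by simp
      field_simp] at this
    rcases hcN with e | e
    · rwa [e] at this
    · rw [e] at this
      have := negr _ _ (by simp) this
      rwa [neg_neg] at this
  rcases eq_or_ne l 0 with rfl | h0
  · rw [H.v_zero, commutatorElement_one_right]; exact one_mem _
  obtain ⟨y, hy⟩ := H.hN l hl h0
  have := tor (a / ((y : F) / σ y)) 1 1 y h1 (hone _)
  simp only [Units.val_one, map_one, inv_one, mul_one, one_mul, hy] at this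
  rwa [mul_div_cancel₀ _ (by simp : (y : F) / σ y ≠ 0)] at this

theorem v_A (a : F) {l : F} (hl : σ l = l) : ∃ p ∈ H.BM, H.v l * H.A a = H.A a * p * H.v l := by
  refine ⟨(H.A a)⁻¹ * ⁅H.A a, H.v l⁆⁻¹ * H.A a, ?_, by rw [commutatorElement_def]; group⟩
  have := H.A_conj_BM (-a) (inv_mem (H.A_v a hl))
  rwa [← H.A_inv, inv_inv] at this

/-- The positive subgroup. -/
def U : Subgroup X where
  carrier := {x | ∃ a, ∃ p ∈ H.BM, ∃ l, σ l = l ∧ x = H.A a * p * H.v l}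
  one_mem' := ⟨0, 1, one_mem _, 0, map_zero σ, by rw [H.A_zero, H.v_zero]; group⟩
  mul_mem' := by
    rintro _ _ ⟨a, p, hp, l, hl, rfl⟩ ⟨a', p', hp', l', hl', rfl⟩
    obtain ⟨q, hq, e⟩ := H.v_A a' hl
    refine ⟨a + a', (H.A (-a') * p * (H.A (-a'))⁻¹) * (q * p'),
      mul_mem (H.A_conj_BM _ hp) (mul_mem hq hp'), l + l', by rw [map_add, hl, hl'], ?_⟩
    rw [← H.A_inv a', ← H.A_add, ← H.v_add l l' hl hl']
    have c : p' * H.v l = H.v l * p' := (H.BM_v hp' hl).eq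
    calc H.A a * p * H.v l * (H.A a' * p' * H.v l')
        = H.A a * p * (H.v l * H.A a') * p' * H.v l' := by group
      _ = H.A a * p * H.A a' * q * (H.v l * p') * H.v l' := by rw [e]; group
      _ = _ := by rw [← c]; group
  inv_mem' := by
    rintro _ ⟨a, p, hp, l, hl, rfl⟩
    have hl' : σ (-l) = -l := by rw [map_neg, hl]
    obtain ⟨q, hq, e⟩ := H.v_A (-a) hl'
    refine ⟨-a, H.A a * p⁻¹ * (H.A a)⁻¹ * q, mul_mem (H.A_conj_BM _ (inv_mem hp)) hq, -l, hl', ?_⟩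
    have c : p⁻¹ * H.v (-l) = H.v (-l) * p⁻¹ := (H.BM_v (inv_mem hp) hl').eq
    rw [_root_.mul_inv_rev, _root_.mul_inv_rev, H.v_inv hl, H.A_inv, ← mul_assoc, ← c,
      mul_assoc p⁻¹, e, ← H.A_inv]
    group

theorem A_mem_U (a : F) : H.A a ∈ H.U :=
  ⟨a, 1, one_mem _, 0, map_zero σ, by rw [H.v_zero]; group⟩

theorem BM_le_U : H.BM ≤ H.U := fun p hp =>
  ⟨0, p, hp, 0, map_zero σ, by rw [H.A_zero, H.v_zero]; group⟩

theorem v_mem_U {l : F} (hl : σ l = l) : H.v l ∈ H.U :=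
  ⟨0, 1, one_mem _, l, hl, by rw [H.A_zero]; group⟩

theorem T_conj_U {t : X} (ht : t ∈ H.T) {u : X} (hu : u ∈ H.U) : t * u * t⁻¹ ∈ H.U := by
  obtain ⟨x, y, rfl⟩ := ht
  obtain ⟨a, p, hp, l, hl, rfl⟩ := hu
  rw [← conj_mul, ← conj_mul, H.DE_A, H.DE_v _ _ hl]
  exact mul_mem (mul_mem (H.A_mem_U _) (H.BM_le_U (H.DE_BM x y hp)))
    (H.v_mem_U (H.fix_norm_inv x (H.fix_norm_mul y hl)))

end Data

end CfsgLib.Pres.SU.Four
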