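import Cfsg.Agent.Lib.Pres.SU.Four.Model
import Cfsg.Agent.Lib.Pres.SU.Cells
import Cfsg.Agent.Lib.Pres.SpWords

/-!
Finitely many conditions on a homomorphism of `SL₂`, one Weyl element and one long root element give
the torus and the permutation action of the monomial subgroup.
-/

set_option autoImplicit false

namespace CfsgLib.Pres.SU.Four

open Matrix CfsgLib.Classical CfsgLib.Classical.Unitary CfsgLib.Steinberg.R1Data
open scoped MatrixGroups commutatorElement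

variable {F : Type*} [Field F] {σ : F →+* F} {q : ℕ}

/-- The diagonal element of `SL₂`. -/
def dg (c : Fˣ) : SL(2, F) := ⟨!![(c : F), 0; 0, (c⁻¹ : Fˣ)], by simp [Matrix.det_fin_two]⟩

@[simp] theorem dg_val (c : Fˣ) :
    (dg c : Matrix (Fin 2) (Fin 2) F) = !![(c : F), 0; 0, (c⁻¹ : Fˣ)] := rfl

theorem dg_mul (b c : Fˣ) : dg b * dg c = dg (b * c) := by
  refine Subtype.ext ?_
  show (dg b).1 * (dg c).1 = (dg (b * c)).1
  ext i j
  fin_cases i <;> fin_cases j <;> simp [Matrix.mul_apply, Fin.sum_univ_two, mul_comm]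

theorem dg_one : dg (1 : Fˣ) = 1 := by
  refine Subtype.ext ?_
  show (dg (1 : Fˣ)).1 = 1
  ext i j
  fin_cases i <;> fin_cases j <;> simp

/-- The automorphism of `SL₂` induced by `diag (c, σ c)`. -/
def twist (σ : F →+* F) (c : Fˣ) (g : SL(2, F)) : SL(2, F) :=
  ⟨!![g.1 0 0, (c : F) / σ c * g.1 0 1; σ c / (c : F) * g.1 1 0, g.1 1 1], by
    have h1 : σ (c : F) ≠ 0 := by simp
    rw [Matrix.det_fin_two]
    simp only [of_apply, cons_val', cons_val_zero, cons_val_one, empty_val', cons_val_fin_one]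
    field_simp
    exact det2 g⟩

@[simp] theorem twist_val (σ : F →+* F) (c : Fˣ) (g : SL(2, F)) :
    (twist σ c g : Matrix (Fin 2) (Fin 2) F) =
      !![g.1 0 0, (c : F) / σ c * g.1 0 1; σ c / (c : F) * g.1 1 0, g.1 1 1] := rfl

theorem twist_twist (σ : F →+* F) (b c : Fˣ) (g : SL(2, F)) :
    twist σ b (twist σ c g) = twist σ (b * c) g := by
  refine Subtype.ext ?_
  show (twist σ b (twist σ c g)).1 = (twist σ (b * c) g).1
  simp only [twist_val]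
  ext i j
  fin_cases i <;> fin_cases j <;> simp <;> ring

/-- The parameter field of the long roots. -/
def Fix (σ : F →+* F) (a : F) : Prop := σ a = a

variable {X : Type*} [Group X]

/-- The conditions. -/
structure Base (σ : F →+* F) (ε : F) (ω ξ y₀ : Fˣ) (X : Type*) [Group X] where
  hσ : ∀ x, σ (σ x) = x
  hε : σ ε = -ε
  hε0 : ε ≠ 0
  φ : SL(2, F) →* X
  w : X
  v : F → X
  π : X →* HU σ
  πφ : ∀ g, π (φ g) = phiM σ hσ g
  πw : π w = wM σ ε hε hε0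
  πv : ∀ a (ha : σ a = a), π (v a) = vM σ ε hε a ha
  hω : ∀ c : Fˣ, ∃ i : ℕ, ω ^ i = c
  hξ : ∀ c : Fˣ, (c : F) * σ c = 1 → ∃ i : ℕ, ξ ^ i = c
  hξN : (ξ : F) * σ ξ = 1
  hy₀ : (y₀ : F) * σ y₀ = -1
  tw : ∀ g, w * φ (dg ω) * w⁻¹ * φ g * (w * φ (dg ω) * w⁻¹)⁻¹ = φ (twist σ ω g)
  n1 : w * φ (dg ξ) * w⁻¹ = φ (dg ξ)
  w2 : w * w = φ (dg y₀⁻¹) * (w * φ (dg y₀) * w⁻¹)
  braid : Commute w (φ wS * w * (φ wS)⁻¹)
  v_add : ∀ a b, σ a = a → σ b = b → v a * v b = v (a + b)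
  vh : ∀ a, σ a = a → w * φ (dg ω) * w⁻¹ * v a * (w * φ (dg ω) * w⁻¹)⁻¹ = v ((ω : F) * σ ω * a)
  Dv : φ (dg ω) * v 1 * (φ (dg ω))⁻¹ = (w * φ (dg ω) * w⁻¹)⁻¹ * v 1 * (w * φ (dg ω) * w⁻¹)
  wrel : v 1 * (w * v 1 * w⁻¹) * v 1 = w
  wL : Commute w (φ wS * v 1 * (φ wS)⁻¹)
  mA : w⁻¹ * φ wS * w * φ (up 1) * (w⁻¹ * φ wS * w)⁻¹ = φ (up (-1))

namespace Base

variable {ε : F} {ω ξ y₀ : Fˣ} (H : Base σ ε ω ξ y₀ X)

/-- The first torus. -/
def D (c : Fˣ) : X := H.φ (dg c)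

/-- The second torus. -/
def E (c : Fˣ) : X := H.w * H.D c * H.w⁻¹

/-- The Weyl element of the short root. -/
def n : X := H.φ wS

theorem D_mul (b c : Fˣ) : H.D b * H.D c = H.D (b * c) := by rw [D, D, D, ← map_mul, dg_mul]

theorem D_one : H.D 1 = 1 := by rw [D, dg_one, map_one]

theorem D_inv (c : Fˣ) : (H.D c)⁻¹ = H.D c⁻¹ :=
  inv_eq_of_mul_eq_one_right (by rw [D_mul, mul_inv_cancel, D_one])

theorem E_mul (b c : Fˣ) : H.E b * H.E c = H.E (b * c) := by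
  rw [E, E, E, ← D_mul]; group

theorem E_one : H.E 1 = 1 := by rw [E, D_one]; group

theorem E_inv (c : Fˣ) : (H.E c)⁻¹ = H.E c⁻¹ :=
  inv_eq_of_mul_eq_one_right (by rw [E_mul, mul_inv_cancel, E_one])

theorem E_twist (c : Fˣ) (g : SL(2, F)) : H.E c * H.φ g * (H.E c)⁻¹ = H.φ (twist σ c g) := by
  obtain ⟨i, rfl⟩ := H.hω c
  induction i generalizing g with
  | zero =>
    rw [pow_zero, E_one, one_mul, inv_one, mul_one]
    congr 1
    refine Subtype.ext ?_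
    show g.1 = (twist σ 1 g).1
    ext i j; fin_cases i <;> fin_cases j <;> simp
  | succ i ih =>
    rw [pow_succ', ← E_mul, show H.E ω * H.E (ω ^ i) * H.φ g * (H.E ω * H.E (ω ^ i))⁻¹ =
      H.E ω * (H.E (ω ^ i) * H.φ g * (H.E (ω ^ i))⁻¹) * (H.E ω)⁻¹ by group, ih, ← twist_twist]
    exact H.tw _

theorem ED_comm (b c : Fˣ) : Commute (H.E b) (H.D c) := by
  refine mul_inv_eq_iff_eq_mul.1 ?_
  rw [D, E_twist]
  congr 1
  refine Subtype.ext ?_
  show (twist σ b (dg c)).1 = (dg c).1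
  ext i j; fin_cases i <;> fin_cases j <;> simp

theorem E_norm_one {c : Fˣ} (hc : (c : F) * σ c = 1) : H.E c = H.D c := by
  obtain ⟨i, rfl⟩ := H.hξ c hc
  induction i with
  | zero => rw [pow_zero, E_one, D_one]
  | succ i ih =>
    have hN : ((ξ ^ i : Fˣ) : F) * σ (ξ ^ i : Fˣ) = 1 := by
      rw [Units.val_pow_eq_pow_val, map_pow, ← mul_pow, H.hξN, one_pow]
    rw [pow_succ, ← E_mul, ← D_mul, ih hN]
    exact congrArg _ H.n1

theorem neg_one_norm : ((-1 : Fˣ) : F) * σ ((-1 : Fˣ) : F) = 1 := by simp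

theorem wD_neg : Commute H.w (H.D (-1)) := by
  refine mul_inv_eq_iff_eq_mul.1 ?_
  exact H.E_norm_one (by simp)

/-- The torus. -/
def T : Subgroup X where
  carrier := {x | ∃ b c, x = H.D b * H.E c}
  one_mem' := ⟨1, 1, by rw [D_one, E_one, one_mul]⟩
  mul_mem' := by
    rintro _ _ ⟨b, c, rfl⟩ ⟨b', c', rfl⟩
    refine ⟨b * b', c * c', ?_⟩
    rw [← D_mul, ← E_mul, mul_assoc, ← mul_assoc (H.E c), (H.ED_comm c b').eq]
    group
  inv_mem' := by
    rintro _ ⟨b, c, rfl⟩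
    exact ⟨b⁻¹, c⁻¹, by rw [_root_.mul_inv_rev, D_inv, E_inv, (H.ED_comm _ _).eq]⟩

theorem D_mem (c : Fˣ) : H.D c ∈ H.T := ⟨c, 1, by rw [E_one, mul_one]⟩

theorem E_mem (c : Fˣ) : H.E c ∈ H.T := ⟨1, c, by rw [D_one, one_mul]⟩

theorem T_comm {s t : X} (hs : s ∈ H.T) (ht : t ∈ H.T) : Commute s t := by
  obtain ⟨b, c, rfl⟩ := hs
  obtain ⟨b', c', rfl⟩ := ht
  have hDD : ∀ x y, Commute (H.D x) (H.D y) := fun x y => by
    show _ = _; rw [D_mul, D_mul, mul_comm]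
  have hEE : ∀ x y, Commute (H.E x) (H.E y) := fun x y => by
    show _ = _; rw [E_mul, E_mul, mul_comm]
  exact ((hDD _ _).mul_right (H.ED_comm _ _).symm).mul_left ((H.ED_comm _ _).mul_right (hEE _ _))

theorem π_D (c : Fˣ) :
    (H.π (H.D c)).1.1 = diagonal ![(c : F), (c⁻¹ : Fˣ), σ (c⁻¹ : Fˣ), σ c] := by
  rw [D, H.πφ]
  show phiMat σ (dg c) = _
  ext i j
  fin_cases i <;> fin_cases j <;> simp [phiMat, Matrix.diagonal]

theorem π_E (c : Fˣ) :
    (H.π (H.E c)).1.1 = diagonal ![(c : F), σ c, σ (c⁻¹ : Fˣ), (c⁻¹ : Fˣ)] := by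
  have e : H.π (H.E c) * H.π H.w = H.π H.w * H.π (H.D c) := by
    rw [← map_mul, ← map_mul, E]; congr 1; group
  have e' := congrArg (fun x : HU σ => x.1.1) e
  change (H.π (H.E c)).1.1 * (H.π H.w).1.1 = (H.π H.w).1.1 * (H.π (H.D c)).1.1 at e'
  rw [π_D, H.πw] at e'
  let W : Matrix (Fin 4) (Fin 4) F := !![1, 0, 0, 0; 0, 0, 0, ε; 0, 0, 1, 0; 0, -ε⁻¹, 0, 0]
  let W' : Matrix (Fin 4) (Fin 4) F := !![1, 0, 0, 0; 0, 0, 0, -ε; 0, 0, 1, 0; 0, ε⁻¹, 0, 0]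
  have hWW : W * W' = 1 := by
    ext i j
    fin_cases i <;> fin_cases j <;> simp [W, W', Matrix.mul_apply, Fin.sum_univ_four, H.hε0]
  have e'' : (H.π (H.E c)).1.1 * W * W' = W * diagonal ![(c : F), (c⁻¹ : Fˣ), σ (c⁻¹ : Fˣ), σ c] * W' :=
    congrArg (· * W') e'
  rw [mul_assoc, hWW, mul_one] at e''
  rw [e'']
  ext i j
  rw [Matrix.mul_apply, Matrix.diagonal_apply]
  simp only [Matrix.mul_diagonal, Fin.sum_univ_four]
  fin_cases i <;> fin_cases j <;> simp [W, W', Fin.ext_iff] <;> field_simp [H.hε0]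

theorem T_diag {t : X} (ht : t ∈ H.T) : ∃ b c : Fˣ, t = H.D b * H.E c ∧
    (H.π t).1.1 = diagonal ![(b : F) * c, σ c / b, σ ((b * c)⁻¹ : Fˣ), σ b / c] := by
  obtain ⟨b, c, rfl⟩ := ht
  refine ⟨b, c, rfl, ?_⟩
  rw [map_mul]
  show (H.π (H.D b)).1.1 * (H.π (H.E c)).1.1 = _
  rw [π_D, π_E, diagonal_mul_diagonal]
  congr 1
  funext i
  fin_cases i <;> simp [div_eq_mul_inv, mul_comm]

theorem T_inj {t : X} (ht : t ∈ H.T) (h0 : (H.π t).1.1 0 0 = 1) (h1 : (H.π t).1.1 1 1 = 1) :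
    t = 1 := by
  obtain ⟨b, c, rfl, e⟩ := H.T_diag ht
  rw [e] at h0 h1
  simp at h0 h1
  have hb : b = c⁻¹ := eq_inv_of_mul_eq_one_left (Units.ext (by simpa using h0))
  have hc : (c : F) * σ c = 1 := by
    rw [hb] at h1
    simp at h1
    linear_combination h1
  rw [hb, H.E_norm_one hc, D_mul, inv_mul_cancel, D_one]

theorem w2_mem : H.w * H.w ∈ H.T := ⟨y₀⁻¹, y₀, H.w2⟩

theorem wD_w (c : Fˣ) : H.w * H.E c * H.w⁻¹ = H.D c := by
  rw [show H.w * H.E c * H.w⁻¹ = (H.w * H.w) * H.D c * (H.w * H.w)⁻¹ by rw [E]; group,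
    (H.T_comm H.w2_mem (H.D_mem c)).eq]
  group

theorem n_sq : H.n * H.n = H.D (-1) := by
  rw [n, D, ← map_mul]
  congr 1
  refine Subtype.ext ?_
  show (wS : SL(2, F)).1 * (wS : SL(2, F)).1 = (dg (-1 : Fˣ)).1
  ext i j; fin_cases i <;> fin_cases j <;> simp [Matrix.mul_apply, Fin.sum_univ_two]

theorem n_D (c : Fˣ) : H.n * H.D c * H.n⁻¹ = H.D c⁻¹ := by
  rw [n, D, D, mul_inv_eq_iff_eq_mul, ← map_mul, ← map_mul]
  congr 1
  refine Subtype.ext ?_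
  show (wS : SL(2, F)).1 * (dg c).1 = (dg c⁻¹).1 * (wS : SL(2, F)).1
  ext i j; fin_cases i <;> fin_cases j <;> simp [Matrix.mul_apply, Fin.sum_univ_two]

theorem n_E (c : Fˣ) : H.n * H.E c * H.n⁻¹ = H.D (c / Units.map σ c)⁻¹ * H.E c := by
  have e := H.E_twist c wS
  have e' : twist σ c wS = dg (c / Units.map σ c) * wS := by
    refine Subtype.ext ?_
    show (twist σ c wS).1 = (dg (c / Units.map σ c)).1 * (wS : SL(2, F)).1
    ext i j; fin_cases i <;> fin_cases j <;> simp [Matrix.mul_apply, Fin.sum_univ_two, div_eq_mul_inv]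
      <;> ring
  rw [e', map_mul] at e
  have e2 : H.E c * H.n = H.D (c / Units.map σ c) * H.n * H.E c :=
    mul_inv_eq_iff_eq_mul.1 e
  rw [mul_inv_eq_iff_eq_mul, mul_assoc (H.D _), e2, ← mul_assoc, ← mul_assoc, D_mul, inv_mul_cancel,
    D_one, one_mul]

theorem n_T {t : X} (ht : t ∈ H.T) : H.n * t * H.n⁻¹ ∈ H.T := by
  obtain ⟨b, c, rfl⟩ := ht
  rw [← conj_mul, n_D, n_E]
  exact mul_mem (H.D_mem _) (mul_mem (H.D_mem _) (H.E_mem _))

theorem w_T {t : X} (ht : t ∈ H.T) : H.w * t * H.w⁻¹ ∈ H.T := by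
  obtain ⟨b, c, rfl⟩ := ht
  rw [← conj_mul, wD_w]
  exact mul_mem (H.E_mem _) (H.D_mem _)

theorem braid' : H.n * H.w * H.n * H.w = H.w * H.n * H.w * H.n := by
  have hb : H.w * (H.n * H.w * H.n⁻¹) = H.n * H.w * H.n⁻¹ * H.w := H.braid.eq
  have hc : Commute H.n (H.D (-1)) := by
    rw [← n_sq]; exact (Commute.refl _).mul_right (Commute.refl _)
  have hn : H.n⁻¹ = H.n * H.D (-1) := by
    refine inv_eq_of_mul_eq_one_right ?_
    rw [← mul_assoc, n_sq, D_mul, neg_mul_neg, one_mul, D_one]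
  rw [hn] at hb
  refine (mul_right_cancel (b := H.D (-1)) ?_).symm
  calc H.w * H.n * H.w * H.n * H.D (-1) = H.w * (H.n * H.w * (H.n * H.D (-1))) := by group
    _ = H.n * H.w * H.n * (H.D (-1) * H.w) := by rw [hb]; group
    _ = _ := by rw [← H.wD_neg.eq]; group

/-- The monomial representatives. -/
def rep : Fin 8 → X :=
  ![1, H.n, H.w, H.n * H.w, H.w * H.n, H.n * H.w * H.n, H.w * H.n * H.w, H.n * H.w * H.n * H.w]

/-- The monomial subgroup. -/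
def M : Subgroup X := Subgroup.closure ((H.T : Set X) ∪ {H.n, H.w})

theorem T_le_M : H.T ≤ H.M := fun _ ht => Subgroup.subset_closure (Or.inl ht)

theorem n_mem_M : H.n ∈ H.M := Subgroup.subset_closure (Or.inr (Or.inl rfl))

theorem w_mem_M : H.w ∈ H.M := Subgroup.subset_closure (Or.inr (Or.inr rfl))

theorem n_rep (i : Fin 8) : ∃ t ∈ H.T, ∃ j, H.n * H.rep i = t * H.rep j := by
  have hn2 : H.n * H.n ∈ H.T := by rw [n_sq]; exact H.D_mem _
  fin_cases i <;> simp only [rep] <;> simp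
  · exact ⟨1, one_mem _, 1, by simp [rep]⟩
  · exact ⟨_, hn2, 0, by simp [rep]⟩
  · exact ⟨1, one_mem _, 3, by simp [rep]⟩
  · exact ⟨_, hn2, 2, by simp [rep]; group⟩
  · exact ⟨1, one_mem _, 5, by simp [rep]; group⟩
  · exact ⟨_, hn2, 4, by simp [rep]; group⟩
  · exact ⟨1, one_mem _, 7, by simp [rep]; group⟩
  · exact ⟨_, hn2, 6, by simp [rep]; group⟩

theorem w_rep (i : Fin 8) : ∃ t ∈ H.T, ∃ j, H.w * H.rep i = t * H.rep j := by
  have hw2 := H.w2_mem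
  fin_cases i <;> simp only [rep] <;> simp
  · exact ⟨1, one_mem _, 2, by simp [rep]⟩
  · exact ⟨1, one_mem _, 4, by simp [rep]⟩
  · exact ⟨_, hw2, 0, by simp [rep]⟩
  · exact ⟨1, one_mem _, 6, by simp [rep]; group⟩
  · exact ⟨_, hw2, 1, by simp [rep]; group⟩
  · exact ⟨1, one_mem _, 7, by simp [rep]; rw [H.braid']; group⟩
  · exact ⟨_, hw2, 3, by simp [rep]; group⟩
  · exact ⟨_, hw2, 5, by simp [rep]; rw [H.braid']; group⟩

theorem M_form {x : X} (hx : x ∈ H.M) : ∃ t ∈ H.T, ∃ i, x = t * H.rep i := by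
  have hstep : ∀ g ∈ (H.T : Set X) ∪ {H.n, H.w}, ∀ y, (∃ t ∈ H.T, ∃ i, y = t * H.rep i) →
      ∃ t ∈ H.T, ∃ i, g * y = t * H.rep i := by
    rintro g hg _ ⟨t, ht, i, rfl⟩
    rcases hg with hg | hg
    · exact ⟨g * t, mul_mem hg ht, i, by group⟩
    rcases hg with hg | hg <;> subst hg
    · obtain ⟨t', ht', j, e⟩ := H.n_rep i
      exact ⟨_, mul_mem (H.n_T ht) ht', j, by
        rw [mul_assoc _ t', ← e]; group⟩
    · obtain ⟨t', ht', j, e⟩ := H.w_rep i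
      exact ⟨_, mul_mem (H.w_T ht) ht', j, by
        rw [mul_assoc _ t', ← e]; group⟩
  have hnone : ∃ t ∈ H.T, ∃ i, (1 : X) = t * H.rep i := ⟨1, one_mem _, 0, by simp [rep]⟩
  induction hx using Subgroup.closure_induction_left with
  | one => exact hnone
  | mul_left g hg y _ ih => exact hstep g hg y ih
  | inv_mul_cancel g hg y _ ih =>
    have hinv : ∃ t ∈ H.T, g⁻¹ = t * g ∨ g⁻¹ = t := by
      rcases hg with hg | hg
      · exact ⟨g⁻¹, inv_mem hg, Or.inr rfl⟩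
      rcases hg with hg | hg <;> subst hg
      · exact ⟨(H.n * H.n)⁻¹, inv_mem (by rw [n_sq]; exact H.D_mem _), Or.inl (by group)⟩
      · exact ⟨(H.w * H.w)⁻¹, inv_mem H.w2_mem, Or.inl (by group)⟩
    obtain ⟨t, ht, e | e⟩ := hinv
    · obtain ⟨t', ht', j, e'⟩ := hstep g hg y ih
      exact ⟨t * t', mul_mem ht ht', j, by rw [e, mul_assoc, e', mul_assoc]⟩
    · rw [e]; exact hstep t (Or.inl ht) y ih

/-- A monomial element with unitriangular image is trivial. -/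
theorem M_inj {x : X} (hx : x ∈ H.M) (h00 : (H.π x).1.1 0 0 = 1) (h11 : (H.π x).1.1 1 1 = 1) :
    x = 1 := by
  obtain ⟨t, ht, i, rfl⟩ := H.M_form hx
  obtain ⟨b, c, ht', e⟩ := H.T_diag ht
  rw [map_mul] at h00 h11
  have e00 : ((H.π t).1.1 * (H.π (H.rep i)).1.1) 0 0 = 1 := h00
  have e11 : ((H.π t).1.1 * (H.π (H.rep i)).1.1) 1 1 = 1 := h11
  rw [e, diagonal_mul] at e00 e11
  have hn : (H.π H.n).1.1 = phiMat σ wS := by rw [n, H.πφ]; rfl
  fin_cases i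
  · simp [rep] at *
    exact H.T_inj ht h00 h11
  all_goals
    simp [rep] at e00 e11
    first
      | (rw [hn] at e00; simp [H.πw, wM, phiMat, Matrix.mul_apply, Fin.sum_univ_four] at e00; done)
      | (simp [H.πw, wM] at e11; done)

end Base

end CfsgLib.Pres.SU.Four
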