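import Cfsg.Agent.Lib.Pres.SU.Four.Comm

/-!
The map to the matrix group is bijective.
-/

set_option autoImplicit false

namespace CfsgLib.Pres.SU.Four

open Matrix CfsgLib.Classical CfsgLib.Classical.Unitary CfsgLib.Steinberg.R1Data
open scoped MatrixGroups commutatorElement

variable {F : Type*} [Field F] [Finite F] {σ : F →+* F}

namespace Data

variable {X : Type*} [Group X] {ε : F} {ω ξ y₀ : Fˣ} (H : Data σ ε ω ξ y₀ X)

/-- The cells of the Weyl group. -/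
def cellData : RootCells X Root where
  R := H.R
  neg r := (r.1, !r.2)
  pos r := r.2 = false
  U := H.U
  M := H.M
  neg_neg r := by simp
  pos_or r := by cases r.2 <;> simp
  R_le := by
    rintro ⟨k, b⟩ (rfl : b = false) y hy
    rw [H.mem_R] at hy
    fin_cases k
    · obtain ⟨a, ha⟩ := hy
      rw [show H.g (⟨0, by omega⟩, false) = 1 from rfl] at ha
      have : y = H.A a := by simpa using ha
      rw [this]; exact H.A_mem_U a
    · obtain ⟨a, ha⟩ := hy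
      rw [show H.g (⟨1, by omega⟩, false) = H.w from rfl] at ha
      have : y = H.B a := by rw [Base.B, ← ha]; group
      rw [this]; exact H.BM_le_U (H.B_mem a)
    · obtain ⟨a, ha0, ha⟩ := hy
      rw [show H.g (⟨2, by omega⟩, false) = H.n from rfl] at ha
      have : y = H.Mr a := by rw [Base.Mr, ← ha]; group
      rw [this]; exact H.BM_le_U (H.Mr_mem ha0)
    · obtain ⟨a, ha0, ha⟩ := hy
      rw [show H.g (⟨3, by omega⟩, false) = 1 from rfl] at ha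
      have : y = H.v a := by simpa using ha
      rw [this]; exact H.v_mem_U ha0
  perm m hm := H.permutes_M hm

theorem mem_RA0 {y : X} : y ∈ H.R (0, false) ↔ ∃ a, y = H.A a := by
  rw [H.mem_R, show H.g (0, false) = 1 from rfl]
  simp only [inv_one, one_mul, mul_one]
  rfl

theorem mem_RL0 {y : X} : y ∈ H.R (3, false) ↔ ∃ a, σ a = a ∧ y = H.v a := by
  rw [H.mem_R, show H.g (3, false) = 1 from rfl]
  simp only [inv_one, one_mul, mul_one]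
  rfl

theorem dn_eq (a : Fˣ) :
    (dn (-(a : F)) : SL(2, F)) = up (-(a : F)⁻¹) * (dg a⁻¹ * wS) * up (-(a : F)⁻¹) := by
  refine Subtype.ext ?_
  show (dn (-(a : F)) : SL(2, F)).1 =
    (up (-(a : F)⁻¹)).1 * ((dg a⁻¹).1 * (wS : SL(2, F)).1) * (up (-(a : F)⁻¹)).1
  have := a.ne_zero
  ext i j; fin_cases i <;> fin_cases j <;> simp [Matrix.mul_apply, Fin.sum_univ_two, this]

theorem n_A (a : F) : H.n * H.A a * H.n⁻¹ = H.φ (dn (-a)) := by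
  rw [Base.n, Base.A, ← map_inv, ← map_mul, ← map_mul, CfsgLib.Pres.SL2Short.wS_conj_up]

theorem simple_n : H.cellData.Simple H.n := by
  refine ⟨H.n_mem_M, (0, false), H.BM ⊔ H.RL, rfl, ?_, ?_, ?_, ?_⟩
  · intro x hx
    have hle : H.BM ⊔ H.RL ≤ H.U.comap (MulAut.conj H.n).toMonoidHom := by
      refine sup_le ?_ ?_
      · rintro _ ⟨b, m, hm, rfl⟩
        show H.n * (H.B b * H.Mr m) * H.n⁻¹ ∈ H.U
        rw [← conj_mul, H.n_B, Base.Mr, show H.n * (H.n * H.v m * H.n⁻¹) * H.n⁻¹ =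
          (H.n * H.n) * H.v m * (H.n * H.n)⁻¹ by group, H.n_sq, H.D_v H.hN _ hm]
        exact mul_mem (H.BM_le_U (H.B_mem _)) (H.v_mem_U (H.fix_norm_inv _ hm))
      · rintro _ ⟨l, hl, rfl⟩
        exact H.BM_le_U (H.Mr_mem hl)
    exact hle hx
  · intro u hu
    obtain ⟨a, p, hp, l, hl, e⟩ := H.U.inv_mem hu
    refine ⟨(H.v l)⁻¹ * p⁻¹, ?_, (H.A a)⁻¹, H.mem_RA0.2 ⟨-a, H.A_inv a⟩, ?_⟩
    · exact mul_mem (inv_mem (Subgroup.mem_sup_right ⟨l, hl, rfl⟩))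
        (inv_mem (Subgroup.mem_sup_left hp))
    · rw [← inv_inv u, e]; group
  · intro y hy
    obtain ⟨a, rfl⟩ := H.mem_RA0.1 hy
    show H.n⁻¹ * H.A a * H.n ∈ H.R (0, true)
    rw [H.mem_R, show H.g (0, true) = H.n from rfl,
      show H.n⁻¹ * (H.n⁻¹ * H.A a * H.n) * H.n = (H.n * H.n)⁻¹ * H.A a * (H.n * H.n) by group, H.n_sq]
    have := (H.T_nor_A (inv_mem (H.D_mem (-1))) (H.A a)).2 ⟨a, rfl⟩
    rwa [inv_inv] at this
  · intro y hy h1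
    obtain ⟨a, rfl⟩ := H.mem_RA0.1 hy
    have h0 : a ≠ 0 := fun e => h1 (by rw [e, H.A_zero])
    refine ⟨H.A (-a⁻¹), H.mem_RA0.2 ⟨_, rfl⟩, H.D (Units.mk0 a h0)⁻¹ * H.n,
      H.M.mul_mem (H.T_le_M (H.D_mem _)) H.n_mem_M, H.A (-a⁻¹), H.mem_RA0.2 ⟨_, rfl⟩, ?_⟩
    rw [H.n_A, Base.D, Base.A, Base.n, ← map_mul, ← map_mul, ← map_mul]
    congr 1
    exact dn_eq (Units.mk0 a h0)

theorem L'_one : H.w * H.v 1 * H.w⁻¹ = H.v (-1) * H.w * H.v (-1) := by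
  rw [← H.v_inv (map_one σ)]
  nth_rw 3 [← H.wrel]
  group

theorem simple_w : H.cellData.Simple H.w := by
  refine ⟨H.w_mem_M, (3, false), H.RA ⊔ H.BM, rfl, ?_, ?_, ?_, ?_⟩
  · intro x hx
    have hle : H.RA ⊔ H.BM ≤ H.U.comap (MulAut.conj H.w).toMonoidHom := by
      refine sup_le ?_ ?_
      · rintro _ ⟨a, rfl⟩
        exact H.BM_le_U (H.B_mem a)
      · rintro _ ⟨b, m, hm, rfl⟩
        show H.w * (H.B b * H.Mr m) * H.w⁻¹ ∈ H.U
        rw [← conj_mul, H.w_Mr hm, Base.B, show H.w * (H.w * H.A b * H.w⁻¹) * H.w⁻¹ =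
          (H.w * H.w) * H.A b * (H.w * H.w)⁻¹ by group]
        obtain ⟨a', e⟩ := (H.T_nor_A H.w2_mem (H.A b)).2 ⟨b, rfl⟩
        rw [e]
        exact mul_mem (H.A_mem_U _) (H.BM_le_U (H.Mr_mem hm))
    exact hle hx
  · intro u hu
    obtain ⟨a, p, hp, l, hl, rfl⟩ := hu
    exact ⟨H.A a * p, mul_mem (Subgroup.mem_sup_left ⟨a, rfl⟩) (Subgroup.mem_sup_right hp),
      H.v l, H.mem_RL0.2 ⟨l, hl, rfl⟩, rfl⟩
  · intro y hy
    obtain ⟨a, ha, rfl⟩ := H.mem_RL0.1 hy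
    show H.w⁻¹ * H.v a * H.w ∈ H.R (3, true)
    rw [H.mem_R, show H.g (3, true) = H.w from rfl,
      show H.w⁻¹ * (H.w⁻¹ * H.v a * H.w) * H.w = (H.w * H.w)⁻¹ * H.v a * (H.w * H.w) by group]
    have := (H.T_nor_L (inv_mem H.w2_mem) (H.v a)).2 ⟨a, ha, rfl⟩
    rwa [inv_inv] at this
  · intro y hy h1
    obtain ⟨a, ha, rfl⟩ := H.mem_RL0.1 hy
    have h0 : a ≠ 0 := fun e => h1 (by rw [e, H.v_zero])
    obtain ⟨x, hx⟩ := H.hN a ha h0
    have e1 := H.D_v H.hN x⁻¹ (map_one σ)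
    have e2 := H.E_v x⁻¹ (show σ (-1 : F) = -1 by simp)
    rw [show (((x⁻¹ : Fˣ) : F) * σ (x⁻¹ : Fˣ))⁻¹ * 1 = a by
      rw [Units.val_inv_eq_inv_val, map_inv₀, ← hx]; field_simp] at e1
    have hr : ((x⁻¹ : Fˣ) : F) * σ (x⁻¹ : Fˣ) * -1 = -a⁻¹ := by
      rw [Units.val_inv_eq_inv_val, map_inv₀, ← hx, mul_inv]; ring
    rw [hr] at e2
    have hfix : σ (-a⁻¹) = -a⁻¹ := by rw [map_neg, map_inv₀, ha]
    refine ⟨H.v (-a⁻¹), H.mem_RL0.2 ⟨_, hfix, rfl⟩, H.E x⁻¹ * H.w * (H.E x⁻¹)⁻¹, ?_,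
      H.v (-a⁻¹), H.mem_RL0.2 ⟨_, hfix, rfl⟩, ?_⟩
    · exact H.M.mul_mem (H.M.mul_mem (H.T_le_M (H.E_mem _)) H.w_mem_M)
        (H.M.inv_mem (H.T_le_M (H.E_mem _)))
    conv_lhs => rw [← e1]
    rw [show H.w * (H.D x⁻¹ * H.v 1 * (H.D x⁻¹)⁻¹) * H.w⁻¹ =
      (H.w * H.D x⁻¹ * H.w⁻¹) * (H.w * H.v 1 * H.w⁻¹) * (H.w * H.D x⁻¹ * H.w⁻¹)⁻¹ by group,
      L'_one, ← e2, show H.w * H.D x⁻¹ * H.w⁻¹ = H.E x⁻¹ from rfl]
    group

/-- Everything lies in a cell. -/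
theorem mem_cells (hgen : Subgroup.closure (Set.range H.φ ∪ {H.w} ∪ H.v '' {a | σ a = a}) = ⊤)
    (g : X) : g ∈ H.cellData.cells := by
  refine RootCells.mem_cells (S := {H.n, H.w}) (T := (H.T : Set X)) ?_ ?_ ?_ ?_
  · rintro s (rfl | rfl)
    · exact ⟨H.simple_n, inv_mem (by rw [H.n_sq]; exact H.D_mem _)⟩
    · exact ⟨H.simple_w, inv_mem H.w2_mem⟩
  · exact fun t ht => ⟨H.T_le_M ht, fun u hu => H.T_conj_U ht hu⟩
  · intro t ht u hu
    have := H.T_conj_U (inv_mem ht) hu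
    rwa [inv_inv] at this
  have hg : g ∈ (⊤ : Subgroup X) := Subgroup.mem_top g
  rw [← hgen] at hg
  refine (Subgroup.closure_le _).2 ?_ hg
  set G := Subgroup.closure ((H.U : Set X) ∪ (H.T : Set X) ∪ {H.n, H.w}) with hG
  rintro y ((⟨s, rfl⟩ | rfl) | ⟨a, ha, rfl⟩)
  · have hle : (⊤ : Subgroup SL(2, F)) ≤ G.comap H.φ := by
      rw [← CfsgLib.Steinberg.R1Data.closure_gens, Subgroup.closure_le]
      rintro _ (⟨t, rfl⟩ | rfl)
      · exact Subgroup.subset_closure (Or.inl (Or.inl (H.A_mem_U t)))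
      · exact Subgroup.subset_closure (Or.inr (Or.inl rfl))
    exact hle (Subgroup.mem_top s)
  · exact Subgroup.subset_closure (Or.inr (Or.inr rfl))
  · exact Subgroup.subset_closure (Or.inl (Or.inl (H.v_mem_U ha)))

theorem π_A (a : F) :
    (H.π (H.A a)).1.1 = !![1, a, 0, 0; 0, 1, 0, 0; 0, 0, 1, 0; 0, 0, -σ a, 1] := by
  rw [Base.A, H.πφ]
  show phiMat σ (up a) = _
  ext i j; fin_cases i <;> fin_cases j <;> simp [phiMat]

theorem π_n : (H.π H.n).1.1 = !![0, 1, 0, 0; -1, 0, 0, 0; 0, 0, 0, 1; 0, 0, -1, 0] := by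
  rw [Base.n, H.πφ]
  show phiMat σ wS = _
  ext i j; fin_cases i <;> fin_cases j <;> simp [phiMat]

theorem π_w : (H.π H.w).1.1 = !![1, 0, 0, 0; 0, 0, 0, ε; 0, 0, 1, 0; 0, -ε⁻¹, 0, 0] := by
  rw [H.πw]; rfl

theorem π_v {a : F} (ha : σ a = a) :
    (H.π (H.v a)).1.1 = !![1, 0, 0, 0; 0, 1, 0, a * ε; 0, 0, 1, 0; 0, 0, 0, 1] := by
  rw [H.πv a ha]; rfl

theorem π_mul (x y : X) : (H.π (x * y)).1.1 = (H.π x).1.1 * (H.π y).1.1 := by rw [map_mul]; rfl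

theorem π_B (b : F) :
    (H.π (H.B b)).1.1 = !![1, 0, 0, -(b * ε); 0, 1, -(σ b * ε), 0; 0, 0, 1, 0; 0, 0, 0, 1] := by
  have e : (H.π (H.B b)).1.1 * (H.π H.w).1.1 = (H.π H.w).1.1 * (H.π (H.A b)).1.1 := by
    rw [← π_mul, ← π_mul, Base.B, inv_mul_cancel_right]
  let W : Matrix (Fin 4) (Fin 4) F := !![1, 0, 0, 0; 0, 0, 0, -ε; 0, 0, 1, 0; 0, ε⁻¹, 0, 0]
  have hW : (H.π H.w).1.1 * W = 1 := by
    rw [π_w]
    ext i j; fin_cases i <;> fin_cases j <;> simp [W, Matrix.mul_apply, Fin.sum_univ_four, H.hε0]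
  have e' : (H.π (H.B b)).1.1 * (H.π H.w).1.1 * W = (H.π H.w).1.1 * (H.π (H.A b)).1.1 * W :=
    congrArg (· * W) e
  rw [mul_assoc, hW, mul_one, π_w, π_A] at e'
  rw [e']
  ext i j
  fin_cases i <;> fin_cases j <;> simp [W, Matrix.mul_apply, Fin.sum_univ_four, H.hε0] <;>
    field_simp [H.hε0]

theorem π_Mr {m : F} (hm : σ m = m) :
    (H.π (H.Mr m)).1.1 = !![1, 0, m * ε, 0; 0, 1, 0, 0; 0, 0, 1, 0; 0, 0, 0, 1] := by
  have e : (H.π (H.Mr m)).1.1 * (H.π H.n).1.1 = (H.π H.n).1.1 * (H.π (H.v m)).1.1 := by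
    rw [← π_mul, ← π_mul, Base.Mr, inv_mul_cancel_right]
  let W : Matrix (Fin 4) (Fin 4) F := !![0, -1, 0, 0; 1, 0, 0, 0; 0, 0, 0, -1; 0, 0, 1, 0]
  have hW : (H.π H.n).1.1 * W = 1 := by
    rw [π_n]
    ext i j; fin_cases i <;> fin_cases j <;> simp [W, Matrix.mul_apply, Fin.sum_univ_four]
  have e' : (H.π (H.Mr m)).1.1 * (H.π H.n).1.1 * W = (H.π H.n).1.1 * (H.π (H.v m)).1.1 * W :=
    congrArg (· * W) e
  rw [mul_assoc, hW, mul_one, π_n, H.π_v hm] at e'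
  rw [e']
  ext i j
  fin_cases i <;> fin_cases j <;> simp [W, Matrix.mul_apply, Fin.sum_univ_four]

theorem π_U_form (a b : F) {m l : F} (hm : σ m = m) (hl : σ l = l) :
    (H.π (H.A a * (H.B b * H.Mr m) * H.v l)).1.1 =
      !![1, a, m * ε - a * (σ b * ε), -(b * ε) + a * (l * ε); 0, 1, -(σ b * ε), l * ε;
        0, 0, 1, 0; 0, 0, -σ a, 1] := by
  rw [π_mul, π_mul, π_mul, π_A, π_B, H.π_Mr hm, H.π_v hl]
  ext i j
  fin_cases i <;> fin_cases j <;> simp [Matrix.mul_apply, Fin.sum_univ_four] <;> ring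

theorem U_inj {u : X} (hu : u ∈ H.U) (h : H.π u = 1) : u = 1 := by
  obtain ⟨a, p, ⟨b, m, hm, rfl⟩, l, hl, rfl⟩ := hu
  have e : (H.π (H.A a * (H.B b * H.Mr m) * H.v l)).1.1 = 1 := by rw [h]; rfl
  rw [H.π_U_form a b hm hl] at e
  have h01 := congrFun (congrFun e 0) 1
  have h13 := congrFun (congrFun e 1) 3
  have h03 := congrFun (congrFun e 0) 3
  have h02 := congrFun (congrFun e 0) 2
  simp [H.hε0] at h01 h13 h03 h02
  subst h01
  simp [H.hε0] at h03 h02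
  subst h13
  subst h03
  subst h02
  rw [H.A_zero, H.B_zero, H.Mr_zero, H.v_zero]; group

theorem π_U_diag {u : X} (hu : u ∈ H.U) :
    (H.π u).1.1 0 0 = 1 ∧ (H.π u).1.1 1 1 = 1 := by
  obtain ⟨a, p, ⟨b, m, hm, rfl⟩, l, hl, rfl⟩ := hu
  rw [H.π_U_form a b hm hl]
  simp

theorem π_injective (hgen : Subgroup.closure (Set.range H.φ ∪ {H.w} ∪ H.v '' {a | σ a = a}) = ⊤) :
    Function.Injective H.π := by
  rw [injective_iff_map_eq_one]
  intro x hx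
  obtain ⟨u, hu, m, hm, u', hu', rfl⟩ := H.mem_cells hgen x
  have e : H.π m = H.π (u⁻¹ * u'⁻¹) := by
    rw [map_mul, map_mul] at hx
    rw [map_mul, map_inv, map_inv]
    rw [mul_eq_one_iff_eq_inv] at hx
    rw [← hx]; group
  obtain ⟨h0, h1⟩ := H.π_U_diag (H.U.mul_mem (H.U.inv_mem hu) (H.U.inv_mem hu'))
  have hm1 : m = 1 := H.M_inj hm (by rw [e]; exact h0) (by rw [e]; exact h1)
  subst hm1
  exact H.U_inj (H.U.mul_mem (H.U.mul_mem hu (one_mem _)) hu') hx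

end Data

end CfsgLib.Pres.SU.Four
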