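import Cfsg.Agent.Lib.Classical.UnitaryTransv
import Cfsg.Agent.Lib.Classical.UnitaryFrame
import Cfsg.Agent.Lib.Steinberg.RankOne

/-!
The four dimensional special unitary group of a hyperbolic basis, its basic elements, and the
isomorphism with the group of the standard form.
-/

set_option autoImplicit false

namespace CfsgLib.Pres.SU.Four

open Matrix CfsgLib.Classical CfsgLib.Classical.Unitary CfsgLib.Steinberg.R1Data
open scoped MatrixGroups

variable {F : Type*} [Field F] {σ : F →+* F} {q : ℕ}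

/-- The Gram matrix of two hyperbolic pairs. -/
def J (F : Type*) [Field F] : Matrix (Fin 4) (Fin 4) F :=
  !![0, 0, 1, 0; 0, 0, 0, 1; 1, 0, 0, 0; 0, 1, 0, 0]

/-- The special unitary group of two hyperbolic pairs. -/
def HU (σ : F →+* F) : Subgroup SL(4, F) where
  carrier := {g | g.1ᵀ * J F * g.1.map σ = J F}
  one_mem' := by simp
  mul_mem' {a b} ha hb := by
    show (a.1 * b.1)ᵀ * J F * (a.1 * b.1).map σ = J F
    rw [transpose_mul, Matrix.map_mul,
      show b.1ᵀ * a.1ᵀ * J F * (a.1.map σ * b.1.map σ) = b.1ᵀ * (a.1ᵀ * J F * a.1.map σ) * b.1.map σ by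
        simp only [mul_assoc]]
    rw [ha]
    exact hb
  inv_mem' {a} ha := by
    show (a⁻¹).1ᵀ * J F * (a⁻¹).1.map σ = J F
    have e1 : (a⁻¹).1 * a.1 = 1 := congrArg Subtype.val (inv_mul_cancel a)
    have e2 : a.1 * (a⁻¹).1 = 1 := congrArg Subtype.val (mul_inv_cancel a)
    conv_lhs => rw [← show a.1ᵀ * J F * a.1.map σ = J F from ha]
    rw [show (a⁻¹).1ᵀ * (a.1ᵀ * J F * a.1.map σ) * (a⁻¹).1.map σ =
      ((a⁻¹).1ᵀ * a.1ᵀ) * J F * (a.1.map σ * (a⁻¹).1.map σ) by simp only [mul_assoc],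
      ← transpose_mul, e2, ← Matrix.map_mul, e2]
    simp

theorem hu_ext {x y : HU σ} (h : x.1.1 = y.1.1) : x = y := Subtype.ext (Subtype.ext h)

/-- The rank one subgroup of a short root. -/
def phiMat (σ : F →+* F) (g : SL(2, F)) : Matrix (Fin 4) (Fin 4) F :=
  !![g.1 0 0, g.1 0 1, 0, 0; g.1 1 0, g.1 1 1, 0, 0; 0, 0, σ (g.1 1 1), -σ (g.1 1 0);
    0, 0, -σ (g.1 0 1), σ (g.1 0 0)]

theorem det2 (g : SL(2, F)) : g.1 0 0 * g.1 1 1 - g.1 0 1 * g.1 1 0 = 1 := by
  rw [← Matrix.det_fin_two]; exact g.2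

theorem phiMat_det (g : SL(2, F)) : (phiMat σ g).det = 1 := by
  have e := det2 g
  have e' := congrArg σ e
  simp only [map_sub, map_mul, map_one] at e'
  simp [phiMat, Matrix.det_succ_row_zero, Fin.sum_univ_succ]
  simp only [Fin.succAbove, Fin.lt_def] at *
  simp
  linear_combination (σ (g.1 0 0) * σ (g.1 1 1) - σ (g.1 0 1) * σ (g.1 1 0)) * e + e'

/-- The hom of the short root. -/
def phiM (σ : F →+* F) (hσ : ∀ x, σ (σ x) = x) : SL(2, F) →* HU σ where
  toFun g := ⟨⟨phiMat σ g, phiMat_det g⟩, by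
    have e := det2 g
    have e' := congrArg σ e
    simp only [map_sub, map_mul, map_one] at e'
    show (phiMat σ g)ᵀ * J F * (phiMat σ g).map σ = J F
    ext i j
    fin_cases i <;> fin_cases j <;>
      simp [phiMat, J, Matrix.mul_apply, Fin.sum_univ_four, hσ] <;> grobner⟩
  map_one' := hu_ext (by
    ext i j
    fin_cases i <;> fin_cases j <;> simp [phiMat])
  map_mul' g g' := hu_ext (by
    show phiMat σ (g * g') = phiMat σ g * phiMat σ g'
    ext i j
    fin_cases i <;> fin_cases j <;>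
      simp [phiMat, SpecialLinearGroup.coe_mul, Matrix.mul_apply, Fin.sum_univ_four,
        Fin.sum_univ_two] <;> ring)

/-- The element of a long root. -/
def vM (σ : F →+* F) (ε : F) (hε : σ ε = -ε) (a : F) (ha : σ a = a) : HU σ :=
  ⟨⟨!![1, 0, 0, 0; 0, 1, 0, a * ε; 0, 0, 1, 0; 0, 0, 0, 1], by
      simp [Matrix.det_succ_row_zero, Fin.sum_univ_succ]⟩, by
    show _ᵀ * J F * _ = J F
    ext i j
    fin_cases i <;> fin_cases j <;>
      simp [J, Matrix.mul_apply, Fin.sum_univ_four, hε, ha] <;> ring⟩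

/-- The Weyl element of a long root. -/
def wM (σ : F →+* F) (ε : F) (hε : σ ε = -ε) (hε0 : ε ≠ 0) : HU σ :=
  ⟨⟨!![1, 0, 0, 0; 0, 0, 0, ε; 0, 0, 1, 0; 0, -ε⁻¹, 0, 0], by
      simp [Matrix.det_succ_row_zero, Fin.sum_univ_succ]
      simp [Fin.succAbove, hε0]⟩, by
    show _ᵀ * J F * _ = J F
    ext i j
    fin_cases i <;> fin_cases j <;>
      simp [J, Matrix.mul_apply, Fin.sum_univ_four, hε, hε0]⟩

/-- The matrix with the vectors of a hyperbolic basis as columns. -/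
def frame (σ : F →+* F) (a μ r : F) : Matrix (Fin 4) (Fin 4) F :=
  !![1, 0, r, 0; a, 0, μ * a * r, 0; 0, 1, 0, r; 0, a, 0, μ * a * r]

/-- The standard special unitary group is the one of two hyperbolic pairs. -/
theorem exists_iso [Finite F] (hF : Nat.card F = q ^ 2) (h : UFrob σ q) :
    Nonempty (HU σ ≃* Cfsg.SU 4 F q) := by
  obtain ⟨a, ha⟩ := exists_pow_succ_eq hF (c := -1) (by rw [← h.pow, map_neg, map_one])
  rw [pow_succ', ← h.pow] at ha
  have : Nontrivial (normOne F q) := by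
    rw [← Finite.one_lt_card_iff_nontrivial, card_normOne hF]
    have := two_le_q hF
    omega
  obtain ⟨⟨μu, hμu⟩, hne⟩ := exists_ne (1 : normOne F q)
  obtain ⟨μ, hμ⟩ : ∃ μ : F, μ = μu := ⟨_, rfl⟩
  have hμN : μ * σ μ = 1 := by
    have : (μu : F) ^ (q + 1) = 1 := congrArg Units.val (MonoidHom.mem_ker.1 hμu)
    rwa [pow_succ', ← h.pow, ← hμ] at this
  have hμ1 : μ ≠ 1 := fun e => hne (Subtype.ext (Units.ext (by rw [← hμ, e]; rfl)))
  obtain ⟨r, hr⟩ : ∃ r : F, σ r * (1 - σ μ) = 1 := by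
    refine ⟨σ (1 - σ μ)⁻¹, ?_⟩
    rw [h.invol, inv_mul_cancel₀]
    intro e
    apply hμ1
    rw [← h.invol μ, ← sub_eq_zero.1 e, map_one]
  have hr' : r * (1 - μ) = 1 := by
    have := congrArg σ hr
    simpa [h.invol] using this
  set P := frame σ a μ r
  have hP : Pᵀ * P.map σ = J F := by
    ext i j
    fin_cases i <;> fin_cases j <;>
      simp [P, frame, J, Matrix.mul_apply, Fin.sum_univ_four] <;> grobner
  have hdet : IsUnit P.det := by
    rw [isUnit_iff_ne_zero]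
    intro e
    have hd := congrArg Matrix.det hP
    rw [det_mul, det_transpose, e, zero_mul] at hd
    simp [J, Matrix.det_succ_row_zero, Fin.sum_univ_succ, Fin.succAbove] at hd
  have hQ : P⁻¹ * P = 1 := Matrix.nonsing_inv_mul P hdet
  have hQ' : P * P⁻¹ = 1 := Matrix.mul_nonsing_inv P hdet
  have hQd : P.det * (P⁻¹).det = 1 := by rw [← det_mul, hQ', det_one]
  have hJQ : (P⁻¹)ᵀ * J F * (P⁻¹).map σ = 1 := by
    rw [← hP, show (P⁻¹)ᵀ * (Pᵀ * P.map σ) * (P⁻¹).map σ =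
      ((P⁻¹)ᵀ * Pᵀ) * (P.map σ * (P⁻¹).map σ) by simp only [mul_assoc],
      ← transpose_mul, hQ', ← Matrix.map_mul, hQ']
    simp
  have hiff : ∀ M : SL(4, F), M ∈ Cfsg.SU 4 F q ↔ M.1ᵀ * M.1.map σ = 1 := by
    intro M
    have hu : ∀ x y : Fin 4 → F,
        uh σ (M.1 *ᵥ x) (M.1 *ᵥ y) = x ⬝ᵥ ((M.1ᵀ * M.1.map σ) *ᵥ (σ ∘ y)) := fun x y => by
      have : σ ∘ (M.1 *ᵥ y) = M.1.map σ *ᵥ (σ ∘ y) := by
        funext i
        exact RingHom.map_mulVec σ M.1 y i
      rw [uh, this, ← mulVec_mulVec, dotProduct_mulVec x, vecMul_transpose]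
    constructor
    · intro hM
      ext i j
      have := mem_SU_iff.1 hM (Pi.single i 1) (Pi.single j 1)
      rw [h.hermForm_eq, h.hermForm_eq, hu] at this
      simpa [uh_single_left, Pi.single_apply, Matrix.one_apply, Function.comp_def,
        Matrix.mulVec, dotProduct, apply_ite σ] using this
    · intro hM
      refine mem_SU_iff.2 fun x y => ?_
      rw [h.hermForm_eq, h.hermForm_eq, hu, hM, one_mulVec, uh]
  let f : SL(4, F) ≃* SL(4, F) :=
    { toFun := fun M => ⟨P * M.1 * P⁻¹, by rw [det_mul, det_mul, M.2, mul_one, hQd]⟩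
      invFun := fun M => ⟨P⁻¹ * M.1 * P, by rw [det_mul, det_mul, M.2, mul_one, mul_comm, hQd]⟩
      left_inv := fun M => Subtype.ext (by
        show P⁻¹ * (P * M.1 * P⁻¹) * P = M.1
        rw [show P⁻¹ * (P * M.1 * P⁻¹) * P = (P⁻¹ * P) * M.1 * (P⁻¹ * P) by simp only [mul_assoc],
          hQ, one_mul, mul_one])
      right_inv := fun M => Subtype.ext (by
        show P * (P⁻¹ * M.1 * P) * P⁻¹ = M.1
        rw [show P * (P⁻¹ * M.1 * P) * P⁻¹ = (P * P⁻¹) * M.1 * (P * P⁻¹) by simp only [mul_assoc],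
          hQ', one_mul, mul_one])
      map_mul' := fun M M' => Subtype.ext (by
        show P * (M.1 * M'.1) * P⁻¹ = P * M.1 * P⁻¹ * (P * M'.1 * P⁻¹)
        rw [show P * M.1 * P⁻¹ * (P * M'.1 * P⁻¹) = P * M.1 * (P⁻¹ * P) * M'.1 * P⁻¹ by
          simp only [mul_assoc], hQ, mul_one]
        simp only [mul_assoc]) }
  have hmap : (HU σ).map f.toMonoidHom = Cfsg.SU 4 F q := by
    ext M
    rw [Subgroup.mem_map_equiv, hiff]
    show (f.symm M).1ᵀ * J F * (f.symm M).1.map σ = J F ↔ _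
    show (P⁻¹ * M.1 * P)ᵀ * J F * (P⁻¹ * M.1 * P).map σ = J F ↔ _
    rw [transpose_mul, transpose_mul, Matrix.map_mul, Matrix.map_mul,
      show Pᵀ * (M.1ᵀ * (P⁻¹)ᵀ) * J F * ((P⁻¹).map σ * M.1.map σ * P.map σ) =
        Pᵀ * (M.1ᵀ * ((P⁻¹)ᵀ * J F * (P⁻¹).map σ) * M.1.map σ) * P.map σ by simp only [mul_assoc],
      hJQ, mul_one]
    constructor
    · intro e
      have e' := congrArg (fun X => (P⁻¹)ᵀ * X * (P⁻¹).map σ) e
      simp only [hJQ] at e'
      rw [show (P⁻¹)ᵀ * (Pᵀ * (M.1ᵀ * M.1.map σ) * P.map σ) * (P⁻¹).map σ =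
        ((P⁻¹)ᵀ * Pᵀ) * (M.1ᵀ * M.1.map σ) * (P.map σ * (P⁻¹).map σ) by simp only [mul_assoc],
        ← transpose_mul, hQ', ← Matrix.map_mul, hQ'] at e'
      simpa using e'
    · intro e
      rw [e, mul_one, hP]
  exact ⟨(f.subgroupMap (HU σ)).trans (MulEquiv.subgroupCongr hmap)⟩

end CfsgLib.Pres.SU.Four
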