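import Cfsg.Agent.Lib.Pres.SU.Four.Surj
import Cfsg.Agent.Lib.Classical.SU2

/-!
Parameters for the conditions, and the matrix group satisfies the conditions.
-/

set_option autoImplicit false

namespace CfsgLib.Pres.SU.Four

open Matrix CfsgLib.Classical CfsgLib.Classical.Unitary CfsgLib.Steinberg.R1Data
open scoped MatrixGroups commutatorElement

variable {F : Type*} [Field F] {σ : F →+* F} {q : ℕ}

/-- The scalars used in the conditions. -/
structure Params (σ : F →+* F) where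
  hσ : ∀ x, σ (σ x) = x
  ε : F
  hε : σ ε = -ε
  hε0 : ε ≠ 0
  ω : Fˣ
  hω : ∀ c : Fˣ, ∃ i : ℕ, ω ^ i = c
  ξ : Fˣ
  hξ : ∀ c : Fˣ, (c : F) * σ c = 1 → ∃ i : ℕ, ξ ^ i = c
  hξN : (ξ : F) * σ ξ = 1
  y₀ : Fˣ
  hy₀ : (y₀ : F) * σ y₀ = -1
  hN : NormOnto σ
  h2 : ∀ t : F, σ t = t → ∃ y z : F, σ y = y ∧ σ z = z ∧ t = y * y + z * z
  hc : ∃ c : Fˣ, ((c : F) * σ c = 1 ∨ (c : F) * σ c = -1) ∧ σ ((c : F) * c) ≠ (c : F) * c
  hω2 : σ ((ω : F) * ω) ≠ (ω : F) * ω
  hωσ : σ (ω : F) ≠ ω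

theorem exists_params [Finite F] (hF : Nat.card F = q ^ 2) (h : UFrob σ q) :
    Nonempty (Params σ) := by
  have hq := two_le_q hF
  obtain ⟨ω, hω'⟩ := IsCyclic.exists_monoid_generator (α := Fˣ)
  have hω : ∀ c : Fˣ, ∃ i : ℕ, ω ^ i = c := fun c => Submonoid.mem_powers_iff _ _ |>.1 (hω' c)
  have hcard : Nat.card Fˣ = q ^ 2 - 1 := by rw [card_units_field, hF]
  have hord : orderOf ω = q ^ 2 - 1 := by
    rw [← hcard]
    exact orderOf_eq_card_of_forall_mem_zpowers fun c => by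
      obtain ⟨i, rfl⟩ := hω c; exact ⟨i, zpow_natCast ω i⟩
  obtain ⟨c₀, hc0, hskew⟩ := exists_skew h
  obtain ⟨⟨ξ, hξm⟩, hξ'⟩ := IsCyclic.exists_monoid_generator (α := normOne F q)
  have mem : ∀ c : Fˣ, c ∈ normOne F q ↔ (c : F) * σ c = 1 := fun c => by
    rw [h.pow, ← pow_succ']
    exact ⟨fun e => congrArg Units.val (MonoidHom.mem_ker.1 e),
      fun e => MonoidHom.mem_ker.2 (Units.ext e)⟩
  have hNorm : NormOnto σ := fun a ha ha0 => by
    obtain ⟨t, ht⟩ := exists_pow_succ_eq hF (c := a) (by rw [← h.pow, ha])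
    rw [pow_succ', ← h.pow] at ht
    exact ⟨Units.mk0 t fun e => ha0 (by rw [← ht, e, zero_mul]), ht⟩
  obtain ⟨y₀, hy₀⟩ := hNorm (-1) (by rw [map_neg, map_one]) (neg_ne_zero.2 one_ne_zero)
  have hω2 : σ ((ω : F) * ω) ≠ (ω : F) * ω := by
    intro e
    have e' : ω ^ (2 * q) = ω ^ 2 := Units.ext (by
      rw [Units.val_pow_eq_pow_val, Units.val_pow_eq_pow_val, pow_mul, ← h.pow]
      simpa [sq] using e)
    have h1 : ω ^ (2 * (q - 1)) = 1 := by
      have : ω ^ (2 * (q - 1)) * ω ^ 2 = 1 * ω ^ 2 := by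
        rw [← pow_add, one_mul, show 2 * (q - 1) + 2 = 2 * q by omega, e']
      exact mul_right_cancel this
    have h2 := Nat.le_of_dvd (by omega) (orderOf_dvd_of_pow_eq_one h1)
    rw [hord] at h2
    have : 2 * q ≤ q ^ 2 := by rw [sq]; exact Nat.mul_le_mul_right q hq
    omega
  refine ⟨{
    hσ := h.invol
    ε := c₀
    hε := by linear_combination hskew
    hε0 := hc0
    ω := ω
    hω := hω
    ξ := ξ
    hξ := fun c hc => by
      obtain ⟨i, hi⟩ := Submonoid.mem_powers_iff _ _ |>.1 (hξ' ⟨c, (mem c).2 hc⟩)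
      exact ⟨i, congrArg Subtype.val hi⟩
    hξN := (mem ξ).1 hξm
    y₀ := y₀
    hy₀ := hy₀
    hN := hNorm
    h2 := fun t ht => by
      obtain ⟨y, z, e⟩ :=
        CfsgLib.Pres.SpW.two_squares (⟨t, ht⟩ : σ.eqLocusField (RingHom.id F))
      exact ⟨y.1, z.1, y.2, z.2, congrArg Subtype.val e⟩
    hc := ?_
    hω2 := hω2
    hωσ := fun e => hω2 (by rw [map_mul, e]) }⟩
  obtain ⟨c, hcdef⟩ : ∃ c, c = ω ^ (q - 1) := ⟨_, rfl⟩
  have hcN : (c : F) * σ c = 1 := by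
    rw [h.pow, ← pow_succ', hcdef, Units.val_pow_eq_pow_val, ← pow_mul,
      show (q - 1) * (q + 1) = q ^ 2 - 1 by rw [mul_comm, ← Nat.sq_sub_sq, one_pow], ← hord,
      ← Units.val_pow_eq_pow_val, pow_orderOf_eq_one, Units.val_one]
  by_cases hc : σ ((c : F) * c) = (c : F) * c
  swap
  · exact ⟨c, Or.inl hcN, hc⟩
  -- the field with nine elements
  have hc4 : (c : F) ^ 4 = 1 := by
    rw [map_mul] at hc
    linear_combination ((c : F) * σ c + 1) * hcN - (c : F) * c * hc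
  have h3 : q = 3 := by
    have h1 : ω ^ ((q - 1) * 4) = 1 := Units.ext (by
      rw [pow_mul, ← hcdef, Units.val_pow_eq_pow_val, hc4, Units.val_one])
    have h2 := Nat.le_of_dvd (by omega) (orderOf_dvd_of_pow_eq_one h1)
    rw [hord] at h2
    by_contra hne
    rcases Nat.lt_or_ge q 4 with hlt | hge
    · obtain rfl : q = 2 := by omega
      have h1' := orderOf_dvd_of_pow_eq_one h1
      rw [hord] at h1'
      norm_num at h1'
    · have : 4 * q ≤ q ^ 2 := by rw [sq]; exact Nat.mul_le_mul_right q hge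
      omega
  subst h3
  refine ⟨ω, Or.inr ?_, hω2⟩
  have h8 : (ω : F) ^ 8 = 1 := by
    have e : ω ^ 8 = 1 := by rw [show (8 : ℕ) = 3 ^ 2 - 1 by norm_num, ← hord, pow_orderOf_eq_one]
    simpa using congrArg Units.val e
  rw [h.pow, ← pow_succ']
  have : ((ω : F) ^ 4 - 1) * ((ω : F) ^ 4 + 1) = 0 := by linear_combination h8
  rcases mul_eq_zero.1 this with e | e
  · exfalso
    have e' : ω ^ 4 = 1 := Units.ext (by simpa [sub_eq_zero] using e)
    have := Nat.le_of_dvd (by omega) (orderOf_dvd_of_pow_eq_one e')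
    rw [hord] at this
    norm_num at this
  · linear_combination e

namespace Params

variable (P : Params σ)

open _root_.Classical in
/-- The long root element, for every parameter. -/
noncomputable def vAll (a : F) : HU σ :=
  if ha : σ a = a then vM σ P.ε P.hε a ha else 1

theorem vAll_eq {a : F} (ha : σ a = a) : P.vAll a = vM σ P.ε P.hε a ha := by
  rw [vAll, dif_pos ha]

theorem phiM_val (g : SL(2, F)) : (phiM σ P.hσ g).1.1 = phiMat σ g := rfl

/-- The Weyl element. -/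
def w : HU σ := wM σ P.ε P.hε P.hε0

theorem w_val : P.w.1.1 = !![1, 0, 0, 0; 0, 0, 0, P.ε; 0, 0, 1, 0; 0, -P.ε⁻¹, 0, 0] := rfl

theorem mul_val (x y : HU σ) : (x * y).1.1 = x.1.1 * y.1.1 := rfl

theorem w_inv_val : (P.w⁻¹).1.1 = !![1, 0, 0, 0; 0, 0, 0, -P.ε; 0, 0, 1, 0; 0, P.ε⁻¹, 0, 0] := by
  have e : P.w.1.1 * (P.w⁻¹).1.1 = 1 := by rw [← mul_val, mul_inv_cancel]; rfl
  let W : Matrix (Fin 4) (Fin 4) F := !![1, 0, 0, 0; 0, 0, 0, -P.ε; 0, 0, 1, 0; 0, P.ε⁻¹, 0, 0]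
  have hW : W * P.w.1.1 = 1 := by
    rw [w_val]
    ext i j; fin_cases i <;> fin_cases j <;> simp [W, Matrix.mul_apply, Fin.sum_univ_four, P.hε0]
  exact (left_inv_eq_right_inv hW e).symm

theorem dg_val' (c : Fˣ) :
    (phiM σ P.hσ (dg c)).1.1 = diagonal ![(c : F), (c⁻¹ : Fˣ), σ (c⁻¹ : Fˣ), σ c] := by
  rw [P.phiM_val]
  ext i j; fin_cases i <;> fin_cases j <;> simp [phiMat, Matrix.diagonal]

/-- The second torus. -/
def ed (c : Fˣ) : HU σ := P.w * phiM σ P.hσ (dg c) * P.w⁻¹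

theorem ed_val (c : Fˣ) :
    (P.ed c).1.1 = diagonal ![(c : F), σ c, σ (c⁻¹ : Fˣ), (c⁻¹ : Fˣ)] := by
  rw [ed, mul_val, mul_val, w_val, w_inv_val, P.dg_val']
  ext i j
  rw [Matrix.mul_apply, Matrix.diagonal_apply]
  simp only [Matrix.mul_diagonal, Fin.sum_univ_four]
  have := P.hε0
  fin_cases i <;> fin_cases j <;> simp [Fin.ext_iff] <;> field_simp

theorem phi_n : (phiM σ P.hσ wS).1.1 =
    !![0, 1, 0, 0; -1, 0, 0, 0; 0, 0, 0, 1; 0, 0, -1, 0] := by
  rw [P.phiM_val]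
  ext i j; fin_cases i <;> fin_cases j <;> simp [phiMat]

/-- The conjugate of the Weyl element. -/
theorem nwn_val : (phiM σ P.hσ wS * P.w * (phiM σ P.hσ wS)⁻¹).1.1 =
    !![0, 0, P.ε, 0; 0, 1, 0, 0; -P.ε⁻¹, 0, 0, 0; 0, 0, 0, 1] := by
  have e : (phiM σ P.hσ wS * P.w * (phiM σ P.hσ wS)⁻¹) * phiM σ P.hσ wS =
      phiM σ P.hσ wS * P.w := by group
  let W : Matrix (Fin 4) (Fin 4) F := !![0, -1, 0, 0; 1, 0, 0, 0; 0, 0, 0, -1; 0, 0, 1, 0]
  have hW : (phiM σ P.hσ wS).1.1 * W = 1 := by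
    rw [P.phi_n]
    ext i j; fin_cases i <;> fin_cases j <;> simp [W, Matrix.mul_apply, Fin.sum_univ_four]
  have e' := congrArg (fun x : HU σ => x.1.1 * W) e
  simp only [mul_val, mul_assoc, hW, mul_one] at e'
  rw [mul_val, mul_val, mul_assoc, e', P.phi_n, w_val]
  ext i j
  fin_cases i <;> fin_cases j <;> simp [W, Matrix.mul_apply, Fin.sum_univ_four]

theorem nvn_val {a : F} (ha : σ a = a) :
    (phiM σ P.hσ wS * P.vAll a * (phiM σ P.hσ wS)⁻¹).1.1 =
      !![1, 0, a * P.ε, 0; 0, 1, 0, 0; 0, 0, 1, 0; 0, 0, 0, 1] := by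
  have e : (phiM σ P.hσ wS * P.vAll a * (phiM σ P.hσ wS)⁻¹) * phiM σ P.hσ wS =
      phiM σ P.hσ wS * P.vAll a := by group
  let W : Matrix (Fin 4) (Fin 4) F := !![0, -1, 0, 0; 1, 0, 0, 0; 0, 0, 0, -1; 0, 0, 1, 0]
  have hW : (phiM σ P.hσ wS).1.1 * W = 1 := by
    rw [P.phi_n]
    ext i j; fin_cases i <;> fin_cases j <;> simp [W, Matrix.mul_apply, Fin.sum_univ_four]
  have e' := congrArg (fun x : HU σ => x.1.1 * W) e
  simp only [mul_val, mul_assoc, hW, mul_one] at e'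
  rw [mul_val, mul_val, mul_assoc, e', P.phi_n, vAll_eq P ha]
  show _ * ((vM σ P.ε P.hε a ha).1.1 * _) = _
  ext i j
  fin_cases i <;> fin_cases j <;> simp [vM, W, Matrix.mul_apply, Fin.sum_univ_four]

theorem up_val' (a : F) : (phiM σ P.hσ (up a)).1.1 =
    !![1, a, 0, 0; 0, 1, 0, 0; 0, 0, 1, 0; 0, 0, -σ a, 1] := by
  rw [P.phiM_val]
  ext i j; fin_cases i <;> fin_cases j <;> simp [phiMat]

theorem v_val {a : F} (ha : σ a = a) :
    (P.vAll a).1.1 = !![1, 0, 0, 0; 0, 1, 0, a * P.ε; 0, 0, 1, 0; 0, 0, 0, 1] := by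
  rw [vAll_eq P ha]; rfl

theorem B_val (b : F) : (P.w * phiM σ P.hσ (up b) * P.w⁻¹).1.1 =
    !![1, 0, 0, -(b * P.ε); 0, 1, -(σ b * P.ε), 0; 0, 0, 1, 0; 0, 0, 0, 1] := by
  rw [mul_val, mul_val, P.up_val', w_val, w_inv_val]
  have := P.hε0
  ext i j
  fin_cases i <;> fin_cases j <;> simp [Matrix.mul_apply, Fin.sum_univ_four] <;> field_simp

theorem hu_conj {x y g : HU σ} (h : g.1.1 * y.1.1 = x.1.1 * g.1.1) : g * y * g⁻¹ = x := by
  rw [mul_inv_eq_iff_eq_mul]; exact hu_ext h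

theorem hu_commute {x y : HU σ} (h : x.1.1 * y.1.1 = y.1.1 * x.1.1) : Commute x y := hu_ext h

theorem hu_comm_eq {x y z : HU σ} (h : x.1.1 * y.1.1 = z.1.1 * (y.1.1 * x.1.1)) : ⁅x, y⁆ = z := by
  have e : x * y = z * (y * x) := hu_ext h
  rw [commutatorElement_def, e]; group

set_option maxHeartbeats 1000000 in
/-- The matrix group satisfies the conditions. -/
noncomputable def model : Data σ P.ε P.ω P.ξ P.y₀ (HU σ) where
  hσ := P.hσ
  hε := P.hε
  hε0 := P.hε0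
  φ := phiM σ P.hσ
  w := P.w
  v := P.vAll
  π := MonoidHom.id _
  πφ _ := rfl
  πw := rfl
  πv _ ha := P.vAll_eq ha
  hω := P.hω
  hξ := P.hξ
  hξN := P.hξN
  hy₀ := P.hy₀
  tw g := by
    refine hu_conj ?_
    rw [show (P.w * phiM σ P.hσ (dg P.ω) * P.w⁻¹).1.1 = _ from P.ed_val P.ω, P.phiM_val, P.phiM_val]
    have := P.hσ
    ext i j
    rw [Matrix.diagonal_mul, Matrix.mul_diagonal]
    fin_cases i <;> fin_cases j <;> simp [phiMat, twist_val, div_eq_mul_inv, map_inv₀, this] <;>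
      field_simp
  n1 := by
    refine hu_ext ?_
    rw [show (P.w * phiM σ P.hσ (dg P.ξ) * P.w⁻¹).1.1 = _ from P.ed_val P.ξ, P.dg_val']
    have e : σ (P.ξ : F) = (P.ξ : F)⁻¹ := eq_inv_of_mul_eq_one_right P.hξN
    congr 1
    funext i; fin_cases i <;> simp [e, map_inv₀, P.hσ]
  w2 := by
    refine hu_ext ?_
    rw [mul_val, mul_val, show (P.w * phiM σ P.hσ (dg P.y₀) * P.w⁻¹).1.1 = _ from P.ed_val P.y₀,
      P.dg_val', diagonal_mul_diagonal, w_val]
    have h0 := P.y₀.ne_zero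
    have h1 := P.hy₀
    have hσ0 : σ (P.y₀ : F) ≠ 0 := by simp
    have := P.hε0
    ext i j
    fin_cases i <;> fin_cases j <;>
      simp [Matrix.mul_apply, Fin.sum_univ_four, map_inv₀] <;> field_simp <;>
      linear_combination -h1
  braid := by
    refine hu_commute ?_
    rw [P.nwn_val, w_val]
    ext i j
    fin_cases i <;> fin_cases j <;> simp [Matrix.mul_apply, Fin.sum_univ_four]
  v_add a b ha hb := by
    refine hu_ext ?_
    rw [mul_val, P.v_val ha, P.v_val hb, P.v_val (show σ (a + b) = a + b by rw [map_add, ha, hb])]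
    ext i j
    fin_cases i <;> fin_cases j <;> simp [Matrix.mul_apply, Fin.sum_univ_four] <;> ring
  vh a ha := by
    refine hu_conj ?_
    rw [show (P.w * phiM σ P.hσ (dg P.ω) * P.w⁻¹).1.1 = _ from P.ed_val P.ω, P.v_val ha,
      P.v_val (show σ ((P.ω : F) * σ P.ω * a) = (P.ω : F) * σ P.ω * a by
        rw [map_mul, map_mul, P.hσ, ha]; ring)]
    have := P.ω.ne_zero
    ext i j
    rw [Matrix.diagonal_mul, Matrix.mul_diagonal]
    fin_cases i <;> fin_cases j <;> simp <;> field_simp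
  Dv := by
    refine hu_conj ?_
    rw [mul_val, mul_val, P.dg_val', P.v_val (map_one σ),
      show P.w * phiM σ P.hσ (dg P.ω) * P.w⁻¹ = P.ed P.ω from rfl, P.ed_val,
      show ((P.ed P.ω)⁻¹).1.1 = diagonal ![((P.ω⁻¹ : Fˣ) : F), σ (P.ω⁻¹ : Fˣ), σ P.ω, P.ω] by
        rw [show (P.ed P.ω)⁻¹ = P.ed P.ω⁻¹ from by
          rw [ed, ed, _root_.mul_inv_rev, _root_.mul_inv_rev, inv_inv, ← map_inv,
            show (dg P.ω)⁻¹ = dg P.ω⁻¹ from inv_eq_of_mul_eq_one_right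
              (by rw [dg_mul, mul_inv_cancel, dg_one])]
          group, P.ed_val]
        simp]
    have := P.ω.ne_zero
    have hσ0 : σ (P.ω : F) ≠ 0 := by simp
    ext i j
    rw [Matrix.diagonal_mul, Matrix.mul_diagonal, Matrix.mul_diagonal, Matrix.diagonal_mul]
    fin_cases i <;> fin_cases j <;> simp [map_inv₀] <;> field_simp
  wrel := by
    refine hu_ext ?_
    rw [mul_val, mul_val, mul_val, mul_val, P.v_val (map_one σ), w_inv_val, w_val]
    have := P.hε0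
    ext i j
    fin_cases i <;> fin_cases j <;> simp [Matrix.mul_apply, Fin.sum_univ_four, P.hε0]
  wL := by
    refine hu_commute ?_
    rw [P.nvn_val (map_one σ), w_val]
    ext i j
    fin_cases i <;> fin_cases j <;> simp [Matrix.mul_apply, Fin.sum_univ_four]
  mA := by
    refine hu_conj ?_
    rw [mul_val, mul_val, P.up_val', P.up_val', P.phi_n, w_val, w_inv_val]
    have := P.hε0
    ext i j
    fin_cases i <;> fin_cases j <;> simp [Matrix.mul_apply, Fin.sum_univ_four, P.hε0]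
  hN := P.hN
  h2 := P.h2
  hc := P.hc
  hω2 := P.hω2
  hωσ := P.hωσ
  c1 := by
    refine hu_commute ?_
    simp only [Base.A, Base.Mr, Base.n]
    rw [P.nvn_val (map_one σ), P.up_val']
    ext i j
    fin_cases i <;> fin_cases j <;> simp [Matrix.mul_apply, Fin.sum_univ_four]
  c2 := by
    refine hu_comm_eq ?_
    simp only [Base.A, Base.B, Base.Mr, Base.n]
    rw [mul_val, B_val, P.nvn_val (map_one σ), P.up_val', P.v_val (map_one σ)]
    ext i j
    fin_cases i <;> fin_cases j <;> simp [Matrix.mul_apply, Fin.sum_univ_four]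
  c3 := by
    refine hu_comm_eq ?_
    simp only [Base.A, Base.B, Base.Mr, Base.n]
    rw [B_val, P.nvn_val (show σ (-2 : F) = -2 by simp [map_ofNat]), P.up_val']
    ext i j
    fin_cases i <;> fin_cases j <;> simp [Matrix.mul_apply, Fin.sum_univ_four]
    ring
  c4 := by
    refine hu_comm_eq ?_
    simp only [Base.A, Base.B, Base.Mr, Base.n]
    rw [B_val, P.nvn_val (show σ (-((P.ω : F) + σ P.ω)) = -((P.ω : F) + σ P.ω) by
      simp [P.hσ, add_comm]), P.up_val']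
    ext i j
    fin_cases i <;> fin_cases j <;> simp [Matrix.mul_apply, Fin.sum_univ_four]
    ring

end Params

end CfsgLib.Pres.SU.Four
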