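import Cfsg.Agent.Lib.Pres.SU.Four.Derive

/-!
The eight root subgroups, the action of the torus, and the permutations of the root subgroups.
-/

set_option autoImplicit false

namespace CfsgLib.Pres.SU.Four

open Matrix CfsgLib.Classical CfsgLib.Classical.Unitary CfsgLib.Steinberg.R1Data
open scoped MatrixGroups commutatorElement

variable {F : Type*} [Field F] {σ : F →+* F}

theorem up_mul_up (a b : F) : up a * up b = up (a + b) := CfsgLib.Pres.SL2Short.up_add a b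

theorem dg_up (c : Fˣ) (a : F) : dg c * up a * (dg c)⁻¹ = up ((c : F) * c * a) :=
  CfsgLib.Pres.SL2Short.dia_up c a

theorem up_zero' : up (0 : F) = 1 := by
  refine Subtype.ext ?_
  show (up (0 : F)).1 = 1
  ext i j; fin_cases i <;> fin_cases j <;> simp

theorem twist_up (c : Fˣ) (a : F) : twist σ c (up a) = up ((c : F) / σ c * a) := by
  refine Subtype.ext ?_
  show (twist σ c (up a)).1 = (up ((c : F) / σ c * a)).1
  ext i j; fin_cases i <;> fin_cases j <;> simp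

/-- The elements of norm `a`. -/
def NormOnto (σ : F →+* F) : Prop := ∀ a : F, σ a = a → a ≠ 0 → ∃ y : Fˣ, (y : F) * σ y = a

namespace Base

variable {X : Type*} [Group X] {ε : F} {ω ξ y₀ : Fˣ} (H : Base σ ε ω ξ y₀ X)

/-- A short root element. -/
def A (a : F) : X := H.φ (up a)

/-- The image of a short root element under the Weyl element of a long root. -/
def B (a : F) : X := H.w * H.A a * H.w⁻¹

/-- The image of a long root element under the Weyl element of a short root. -/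
def Mr (a : F) : X := H.n * H.v a * H.n⁻¹

theorem A_add (a b : F) : H.A a * H.A b = H.A (a + b) := by rw [A, A, A, ← map_mul, up_mul_up]

theorem A_zero : H.A 0 = 1 := by rw [A, up_zero', map_one]

theorem A_inv (a : F) : (H.A a)⁻¹ = H.A (-a) :=
  inv_eq_of_mul_eq_one_right (by rw [A_add, add_neg_cancel, A_zero])

theorem B_add (a b : F) : H.B a * H.B b = H.B (a + b) := by
  rw [B, B, B, ← A_add]; group

theorem B_zero : H.B 0 = 1 := by rw [B, A_zero]; group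

theorem B_inv (a : F) : (H.B a)⁻¹ = H.B (-a) :=
  inv_eq_of_mul_eq_one_right (by rw [B_add, add_neg_cancel, B_zero])

theorem v_zero : H.v 0 = 1 := by
  have := H.v_add 0 0 (map_zero σ) (map_zero σ)
  rwa [add_zero, mul_eq_left] at this

theorem v_inv {a : F} (ha : σ a = a) : (H.v a)⁻¹ = H.v (-a) :=
  inv_eq_of_mul_eq_one_right (by
    rw [H.v_add a (-a) ha (by rw [map_neg, ha]), add_neg_cancel, v_zero])

theorem Mr_add {a b : F} (ha : σ a = a) (hb : σ b = b) : H.Mr a * H.Mr b = H.Mr (a + b) := by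
  rw [Mr, Mr, Mr, ← H.v_add a b ha hb]; group

theorem Mr_zero : H.Mr 0 = 1 := by rw [Mr, v_zero]; group

theorem Mr_inv {a : F} (ha : σ a = a) : (H.Mr a)⁻¹ = H.Mr (-a) :=
  inv_eq_of_mul_eq_one_right (by
    rw [H.Mr_add ha (by rw [map_neg, ha]), add_neg_cancel, Mr_zero])

theorem fix_norm (H : Base σ ε ω ξ y₀ X) (c : Fˣ) : σ ((c : F) * σ c) = (c : F) * σ c := by
  rw [map_mul, H.hσ, mul_comm]

theorem fix_norm_mul (H : Base σ ε ω ξ y₀ X) (c : Fˣ) {a : F} (ha : σ a = a) :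
    σ ((c : F) * σ c * a) = (c : F) * σ c * a := by
  rw [map_mul σ _ a, H.fix_norm, ha]

theorem fix_norm_inv (H : Base σ ε ω ξ y₀ X) (c : Fˣ) {a : F} (ha : σ a = a) :
    σ (((c : F) * σ c)⁻¹ * a) = ((c : F) * σ c)⁻¹ * a := by
  rw [map_mul σ _ a, map_inv₀, H.fix_norm, ha]

theorem D_A (c : Fˣ) (a : F) : H.D c * H.A a * (H.D c)⁻¹ = H.A ((c : F) * c * a) := by
  rw [D, A, A, ← map_mul, ← map_inv, ← map_mul, dg_up]

theorem E_A (c : Fˣ) (a : F) : H.E c * H.A a * (H.E c)⁻¹ = H.A ((c : F) / σ c * a) := by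
  rw [A, A, E_twist, twist_up]

theorem w_E (c : Fˣ) : H.w⁻¹ * H.D c * H.w = H.E c := by rw [← H.wD_w c]; group

theorem D_B (c : Fˣ) (a : F) : H.D c * H.B a * (H.D c)⁻¹ = H.B ((c : F) / σ c * a) := by
  rw [B, B, ← H.E_A c a, ← H.w_E c]; group

theorem E_B (c : Fˣ) (a : F) : H.E c * H.B a * (H.E c)⁻¹ = H.B ((c : F) * c * a) := by
  rw [B, B, ← H.D_A c a, E]; group

theorem E_v (c : Fˣ) {a : F} (ha : σ a = a) :
    H.E c * H.v a * (H.E c)⁻¹ = H.v ((c : F) * σ c * a) := by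
  obtain ⟨i, rfl⟩ := H.hω c
  induction i with
  | zero => simp [E_one]
  | succ i ih =>
    rw [pow_succ', ← E_mul, show H.E ω * H.E (ω ^ i) * H.v a * (H.E ω * H.E (ω ^ i))⁻¹ =
      H.E ω * (H.E (ω ^ i) * H.v a * (H.E (ω ^ i))⁻¹) * (H.E ω)⁻¹ by group, ih]
    refine (H.vh _ (H.fix_norm_mul _ ha)).trans (congrArg H.v ?_)
    rw [Units.val_mul, map_mul]; ring

theorem D_v (hN : NormOnto σ) (c : Fˣ) {a : F} (ha : σ a = a) :
    H.D c * H.v a * (H.D c)⁻¹ = H.v (((c : F) * σ c)⁻¹ * a) := by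
  rcases eq_or_ne a 0 with rfl | h0
  · rw [mul_zero, v_zero]; group
  have hω1 : ∀ a, σ a = a → a ≠ 0 → H.D ω * H.v a * (H.D ω)⁻¹ = H.v (((ω : F) * σ ω)⁻¹ * a) := by
    intro a ha h0
    obtain ⟨y, hy⟩ := hN a ha h0
    have e := H.E_v y (map_one σ)
    rw [mul_one, hy] at e
    rw [← e, show H.D ω * (H.E y * H.v 1 * (H.E y)⁻¹) * (H.D ω)⁻¹ =
      (H.D ω * H.E y) * H.v 1 * (H.D ω * H.E y)⁻¹ by group, ← (H.ED_comm y ω).eq,
      show H.E y * H.D ω * H.v 1 * (H.E y * H.D ω)⁻¹ =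
      H.E y * (H.D ω * H.v 1 * (H.D ω)⁻¹) * (H.E y)⁻¹ by group]
    have e2 : H.D ω * H.v 1 * (H.D ω)⁻¹ = H.v (((ω : F) * σ ω)⁻¹ * 1) := by
      refine H.Dv.trans ?_
      show (H.E ω)⁻¹ * H.v 1 * H.E ω = _
      have e3 := H.E_v ω⁻¹ (map_one σ)
      rw [← E_inv, inv_inv] at e3
      refine e3.trans (congrArg H.v ?_)
      rw [Units.val_inv_eq_inv_val, map_inv₀, ← mul_inv]
    rw [e2, H.E_v y (H.fix_norm_inv ω (map_one σ))]
    exact congrArg H.v (by rw [← hy]; ring)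
  obtain ⟨i, rfl⟩ := H.hω c
  induction i with
  | zero => simp [D_one]
  | succ i ih =>
    rw [pow_succ', ← D_mul, show H.D ω * H.D (ω ^ i) * H.v a * (H.D ω * H.D (ω ^ i))⁻¹ =
      H.D ω * (H.D (ω ^ i) * H.v a * (H.D (ω ^ i))⁻¹) * (H.D ω)⁻¹ by group, ih,
      hω1 _ (H.fix_norm_inv _ ha) (mul_ne_zero (inv_ne_zero (mul_ne_zero (Units.ne_zero _)
        (by simp))) h0)]
    exact congrArg H.v (by rw [Units.val_mul, map_mul, mul_inv, mul_inv, mul_inv, mul_inv]; ring)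

theorem n_conj_D (c : Fˣ) : H.n⁻¹ * H.D c * H.n = H.D c⁻¹ := by
  have e := H.n_D c⁻¹
  rw [inv_inv] at e
  rw [← e]; group

theorem n_conj_E (c : Fˣ) : H.n⁻¹ * H.E c * H.n = H.D (c / Units.map σ c)⁻¹ * H.E c := by
  rw [← n_E, show H.n⁻¹ * H.E c * H.n = (H.n * H.n)⁻¹ * (H.n * H.E c * H.n⁻¹) * (H.n * H.n) by group,
    n_sq, mul_assoc, (H.T_comm (H.n_T (H.E_mem c)) (H.D_mem (-1))).eq, ← mul_assoc, inv_mul_cancel,
    one_mul]

theorem D_Mr (hN : NormOnto σ) (c : Fˣ) {a : F} (ha : σ a = a) :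
    H.D c * H.Mr a * (H.D c)⁻¹ = H.Mr ((c : F) * σ c * a) := by
  have e := H.D_v hN c⁻¹ ha
  rw [show (((c⁻¹ : Fˣ) : F) * σ ((c⁻¹ : Fˣ) : F))⁻¹ * a = (c : F) * σ c * a by
    simp [map_inv₀, mul_comm]] at e
  rw [Mr, Mr, ← e, ← n_conj_D]; group

theorem E_Mr (hN : NormOnto σ) (c : Fˣ) {a : F} (ha : σ a = a) :
    H.E c * H.Mr a * (H.E c)⁻¹ = H.Mr ((c : F) * σ c * a) := by
  have e := H.D_v hN (c / Units.map σ c)⁻¹ (H.fix_norm_mul c ha)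
  rw [← H.E_v c ha] at e
  rw [show ((((c / Units.map σ c)⁻¹ : Fˣ) : F) * σ (((c / Units.map σ c)⁻¹ : Fˣ) : F))⁻¹ *
    ((c : F) * σ c * a) = (c : F) * σ c * a by
      have h1 : σ (c : F) ≠ 0 := by simp
      simp [H.hσ, div_eq_mul_inv, map_inv₀]
      field_simp] at e
  rw [Mr, Mr, ← e, show H.D (c / Units.map σ c)⁻¹ * (H.E c * H.v a * (H.E c)⁻¹) *
    (H.D (c / Units.map σ c)⁻¹)⁻¹ = (H.D (c / Units.map σ c)⁻¹ * H.E c) * H.v a *
    (H.D (c / Units.map σ c)⁻¹ * H.E c)⁻¹ by group, ← n_conj_E]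
  group

end Base

/-- The eight roots. -/
abbrev Root := Fin 4 × Bool

/-- The conditions together with the commutator relations. -/
structure Data (σ : F →+* F) (ε : F) (ω ξ y₀ : Fˣ) (X : Type*) [Group X] extends
    Base σ ε ω ξ y₀ X where
  hN : NormOnto σ
  h2 : ∀ t : F, σ t = t → ∃ y z : F, σ y = y ∧ σ z = z ∧ t = y * y + z * z
  hc : ∃ c : Fˣ, ((c : F) * σ c = 1 ∨ (c : F) * σ c = -1) ∧ σ ((c : F) * c) ≠ (c : F) * c
  hω2 : σ ((ω : F) * ω) ≠ (ω : F) * ω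
  hωσ : σ (ω : F) ≠ ω
  c1 : Commute (toBase.A 1) (toBase.Mr 1)
  c2 : ⁅toBase.A 1, toBase.v 1⁆ = toBase.B (-1) * toBase.Mr 1
  c3 : ⁅toBase.A 1, toBase.B 1⁆ = toBase.Mr (-2)
  c4 : ⁅toBase.A 1, toBase.B (ω : F)⁆ = toBase.Mr (-((ω : F) + σ ω))

namespace Data

variable {X : Type*} [Group X] {ε : F} {ω ξ y₀ : Fˣ} (H : Data σ ε ω ξ y₀ X)

/-- Every element is in the span of one and a fixed element over the fixed field. -/
theorem split_fix {u : F} (hu : σ u ≠ u) (H : Data σ ε ω ξ y₀ X) (a : F) :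
    ∃ k k' : F, σ k = k ∧ σ k' = k' ∧ a = k + k' * u := by
  have h : u - σ u ≠ 0 := sub_ne_zero.2 hu.symm
  have h' : σ u - u ≠ 0 := sub_ne_zero.2 hu
  have hk : σ ((a - σ a) / (u - σ u)) = (a - σ a) / (u - σ u) := by
    rw [map_div₀, map_sub, map_sub, H.hσ, H.hσ, div_eq_div_iff h' h]; ring
  refine ⟨a - (a - σ a) / (u - σ u) * u, _, ?_, hk, by ring⟩
  rw [map_sub, map_mul, hk]
  field_simp
  ring

/-- The short root subgroup. -/
def RA : Subgroup X where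
  carrier := {x | ∃ a, x = H.A a}
  one_mem' := ⟨0, H.A_zero.symm⟩
  mul_mem' := by rintro _ _ ⟨a, rfl⟩ ⟨b, rfl⟩; exact ⟨a + b, H.A_add a b⟩
  inv_mem' := by rintro _ ⟨a, rfl⟩; exact ⟨-a, H.A_inv a⟩

/-- The long root subgroup. -/
def RL : Subgroup X where
  carrier := {x | ∃ a, σ a = a ∧ x = H.v a}
  one_mem' := ⟨0, map_zero σ, H.v_zero.symm⟩
  mul_mem' := by
    rintro _ _ ⟨a, ha, rfl⟩ ⟨b, hb, rfl⟩
    exact ⟨a + b, by rw [map_add, ha, hb], H.v_add a b ha hb⟩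
  inv_mem' := by rintro _ ⟨a, ha, rfl⟩; exact ⟨-a, by rw [map_neg, ha], H.v_inv ha⟩

/-- The normaliser of a set of elements, both ways. -/
def Nor (R : Subgroup X) : Subgroup X where
  carrier := {h | ∀ x, h * x * h⁻¹ ∈ R ↔ x ∈ R}
  one_mem' := fun x => by simp
  mul_mem' {a b} ha hb := fun x => by
    show a * b * x * (a * b)⁻¹ ∈ R ↔ _
    rw [show a * b * x * (a * b)⁻¹ = a * (b * x * b⁻¹) * a⁻¹ by group, ha, hb]
  inv_mem' {a} ha := fun x => by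
    show a⁻¹ * x * a⁻¹⁻¹ ∈ R ↔ _
    rw [← ha (a⁻¹ * x * a⁻¹⁻¹), show a * (a⁻¹ * x * a⁻¹⁻¹) * a⁻¹ = x by group]

theorem mem_nor {R : Subgroup X} {h : X} (h1 : ∀ x ∈ R, h * x * h⁻¹ ∈ R)
    (h2 : ∀ x ∈ R, h⁻¹ * x * h ∈ R) : h ∈ Nor R := fun x =>
  ⟨fun hx => by have := h2 _ hx; rwa [show h⁻¹ * (h * x * h⁻¹) * h = x by group] at this, h1 x⟩

theorem T_nor_A {t : X} (ht : t ∈ H.T) : t ∈ Nor H.RA := by
  obtain ⟨b, c, rfl⟩ := ht
  refine mul_mem ?_ ?_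
  · refine mem_nor ?_ ?_
    · rintro _ ⟨a, rfl⟩; exact ⟨_, H.D_A b a⟩
    · rintro _ ⟨a, rfl⟩; exact ⟨_, by rw [← H.D_A b⁻¹ a, ← H.D_inv]; group⟩
  · refine mem_nor ?_ ?_
    · rintro _ ⟨a, rfl⟩; exact ⟨_, H.E_A c a⟩
    · rintro _ ⟨a, rfl⟩; exact ⟨_, by rw [← H.E_A c⁻¹ a, ← H.E_inv]; group⟩

theorem T_nor_L {t : X} (ht : t ∈ H.T) : t ∈ Nor H.RL := by
  obtain ⟨b, c, rfl⟩ := ht
  refine mul_mem ?_ ?_
  · refine mem_nor ?_ ?_
    · rintro _ ⟨a, ha, rfl⟩; exact ⟨_, H.fix_norm_inv b ha, H.D_v H.hN b ha⟩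
    · rintro _ ⟨a, ha, rfl⟩
      exact ⟨_, H.fix_norm_inv b⁻¹ ha, by rw [← H.D_v H.hN b⁻¹ ha, ← H.D_inv]; group⟩
  · refine mem_nor ?_ ?_
    · rintro _ ⟨a, ha, rfl⟩; exact ⟨_, H.fix_norm_mul c ha, H.E_v c ha⟩
    · rintro _ ⟨a, ha, rfl⟩
      exact ⟨_, H.fix_norm_mul c⁻¹ ha, by rw [← H.E_v c⁻¹ ha, ← H.E_inv]; group⟩

/-- From squares to all fixed scalars. -/
theorem of_fix_squares {Q : F → Prop} (H : Data σ ε ω ξ y₀ X) (h0 : Q 0)
    (hadd : ∀ u v, σ u = u → σ v = v → Q u → Q v → Q (u + v))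
    (hsq : ∀ y, σ y = y → y ≠ 0 → Q (y * y)) {t : F} (ht : σ t = t) : Q t := by
  obtain ⟨y, z, hy, hz, rfl⟩ := H.h2 t ht
  refine hadd _ _ (by rw [map_mul, hy]) (by rw [map_mul, hz]) ?_ ?_
  · rcases eq_or_ne y 0 with rfl | h
    · rwa [mul_zero]
    · exact hsq y hy h
  · rcases eq_or_ne z 0 with rfl | h
    · rwa [mul_zero]
    · exact hsq z hz h

theorem two_squares' [Finite F] (t : F) : ∃ y z : F, t = y * y + z * z :=
  CfsgLib.Pres.SpW.two_squares t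

variable [Finite F]

theorem n_B (a : F) : H.n * H.B a * H.n⁻¹ = H.B (-σ a) := by
  refine CfsgLib.Pres.SpW.of_squares (Q := fun a => H.n * H.B a * H.n⁻¹ = H.B (-σ a)) ?_ ?_ ?_ a
  · rw [map_zero, neg_zero, H.B_zero]; group
  · intro u v hu hv
    rw [map_add, neg_add, ← H.B_add, ← H.B_add, ← hu, ← hv]; group
  intro y hy
  lift y to Fˣ using IsUnit.mk0 y hy
  have hone : H.n * H.B 1 * H.n⁻¹ = H.B (-1) := by
    have e : H.w⁻¹ * H.n * H.w * H.A 1 * (H.w⁻¹ * H.n * H.w)⁻¹ = H.A (-1) := H.mA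
    rw [Base.B, Base.B, ← e]; group
  have e := H.E_B y 1
  rw [mul_one] at e
  rw [← e, show H.n * (H.E y * H.B 1 * (H.E y)⁻¹) * H.n⁻¹ =
    (H.n * H.E y * H.n⁻¹) * (H.n * H.B 1 * H.n⁻¹) * (H.n * H.E y * H.n⁻¹)⁻¹ by group, hone,
    H.n_E, show H.D (y / Units.map σ y)⁻¹ * H.E y * H.B (-1) * (H.D (y / Units.map σ y)⁻¹ * H.E y)⁻¹ =
    H.D (y / Units.map σ y)⁻¹ * (H.E y * H.B (-1) * (H.E y)⁻¹) * (H.D (y / Units.map σ y)⁻¹)⁻¹ by group,
    H.E_B, H.D_B]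
  refine congrArg H.B ?_
  have h1 : σ (y : F) ≠ 0 := by simp
  simp [div_eq_mul_inv, map_inv₀, H.hσ]
  field_simp

theorem w_Mr {a : F} (ha : σ a = a) : H.w * H.Mr a * H.w⁻¹ = H.Mr a := by
  rcases eq_or_ne a 0 with rfl | h0
  · rw [H.Mr_zero]; group
  obtain ⟨y, hy⟩ := H.hN a ha h0
  have hone : H.w * H.Mr 1 * H.w⁻¹ = H.Mr 1 := by
    have : Commute H.w (H.Mr 1) := H.wL
    rw [this.eq]; group
  have eE := H.E_Mr H.hN y (map_one σ)
  have eD := H.D_Mr H.hN y (map_one σ)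
  rw [mul_one, hy] at eE eD
  conv_lhs => rw [← eE]
  rw [show H.w * (H.E y * H.Mr 1 * (H.E y)⁻¹) * H.w⁻¹ =
    (H.w * H.E y * H.w⁻¹) * (H.w * H.Mr 1 * H.w⁻¹) * (H.w * H.E y * H.w⁻¹)⁻¹ by group, hone,
    H.wD_w, eD]

theorem nor_kA : H.w⁻¹ * H.n * H.w ∈ Nor H.RA := by
  refine mem_nor ?_ ?_
  · rintro _ ⟨a, rfl⟩
    refine ⟨-σ a, ?_⟩
    rw [show H.w⁻¹ * H.n * H.w * H.A a * (H.w⁻¹ * H.n * H.w)⁻¹ =
      H.w⁻¹ * (H.n * H.B a * H.n⁻¹) * H.w by rw [Base.B]; group, H.n_B, Base.B]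
    group
  · rintro _ ⟨a, rfl⟩
    refine ⟨-σ a, ?_⟩
    have e := H.n_B (-σ a)
    rw [map_neg, H.hσ, neg_neg] at e
    rw [show (H.w⁻¹ * H.n * H.w)⁻¹ * H.A a * (H.w⁻¹ * H.n * H.w) =
      H.w⁻¹ * (H.n⁻¹ * H.B a * H.n) * H.w by rw [Base.B]; group, ← e, Base.B]
    group

theorem nor_kL : H.n⁻¹ * H.w * H.n ∈ Nor H.RL := by
  refine mem_nor ?_ ?_
  · rintro _ ⟨a, ha, rfl⟩
    refine ⟨a, ha, ?_⟩
    rw [show H.n⁻¹ * H.w * H.n * H.v a * (H.n⁻¹ * H.w * H.n)⁻¹ =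
      H.n⁻¹ * (H.w * H.Mr a * H.w⁻¹) * H.n by rw [Base.Mr]; group, H.w_Mr ha, Base.Mr]
    group
  · rintro _ ⟨a, ha, rfl⟩
    refine ⟨a, ha, ?_⟩
    rw [show (H.n⁻¹ * H.w * H.n)⁻¹ * H.v a * (H.n⁻¹ * H.w * H.n) =
      H.n⁻¹ * (H.w⁻¹ * H.Mr a * H.w) * H.n by rw [Base.Mr]; group]
    conv_lhs => rw [← H.w_Mr ha]
    rw [Base.Mr]; group

/-- The subgroup conjugating a base root subgroup onto a root subgroup. -/
def g : Root → X
  | (0, false) => 1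
  | (0, true) => H.n
  | (1, false) => H.w
  | (1, true) => H.w * H.n
  | (2, false) => H.n
  | (2, true) => H.n * H.w
  | (3, false) => 1
  | (3, true) => H.w

/-- The base root subgroup of a root. -/
def base : Root → Subgroup X
  | (0, _) => H.RA
  | (1, _) => H.RA
  | (2, _) => H.RL
  | (3, _) => H.RL

/-- The root subgroups. -/
def R (r : Root) : Subgroup X := (H.base r).map (MulAut.conj (H.g r)).toMonoidHom

theorem mem_R {r : Root} {y : X} : y ∈ H.R r ↔ (H.g r)⁻¹ * y * H.g r ∈ H.base r := by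
  constructor
  · rintro ⟨x, hx, rfl⟩
    simpa [mul_assoc] using hx
  · intro h
    exact ⟨_, h, by simp [mul_assoc]⟩

theorem T_nor (r : Root) {t : X} (ht : t ∈ H.T) : t ∈ Nor (H.base r) := by
  obtain ⟨k, b⟩ := r
  fin_cases k
  · exact H.T_nor_A ht
  · exact H.T_nor_A ht
  · exact H.T_nor_L ht
  · exact H.T_nor_L ht

/-- A permutation of the roots induced by an element. -/
def Permutes (m : X) : Prop :=
  ∃ π : Root → Root, (∀ r, π (r.1, !r.2) = ((π r).1, !(π r).2)) ∧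
    ∀ r, ∀ y ∈ H.R r, m⁻¹ * y * m ∈ H.R (π r)

theorem permutes_mul {a b : X} (ha : H.Permutes a) (hb : H.Permutes b) : H.Permutes (a * b) := by
  obtain ⟨p, hp, hpR⟩ := ha
  obtain ⟨p', hp', hp'R⟩ := hb
  refine ⟨p' ∘ p, fun r => ?_, fun r y hy => ?_⟩
  · simp only [Function.comp_apply, hp, hp']
  · rw [show (a * b)⁻¹ * y * (a * b) = b⁻¹ * (a⁻¹ * y * a) * b by group]
    exact hp'R _ _ (hpR r y hy)

theorem permutes_of_step {m : X} (π : Root → Root) (hπ : ∀ r, π (r.1, !r.2) = ((π r).1, !(π r).2))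
    (h : ∀ r, ∃ k, k ∈ Nor (H.base r) ∧ m⁻¹ * H.g r = H.g (π r) * k)
    (hb : ∀ r, H.base (π r) = H.base r) : H.Permutes m := by
  refine ⟨π, hπ, fun r y hy => ?_⟩
  obtain ⟨k, hk, e⟩ := h r
  rw [H.mem_R] at hy ⊢
  rw [hb]
  have e' : H.g (π r) = m⁻¹ * H.g r * k⁻¹ := by rw [e]; group
  rw [e', show (m⁻¹ * H.g r * k⁻¹)⁻¹ * (m⁻¹ * y * m) * (m⁻¹ * H.g r * k⁻¹) =
    k * ((H.g r)⁻¹ * y * H.g r) * k⁻¹ by group]
  exact (hk _).2 hy

theorem n_conj_T {t : X} (ht : t ∈ H.T) : H.n⁻¹ * t * H.n ∈ H.T := by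
  obtain ⟨b, c, rfl⟩ := ht
  rw [show H.n⁻¹ * (H.D b * H.E c) * H.n = (H.n⁻¹ * H.D b * H.n) * (H.n⁻¹ * H.E c * H.n) by group,
    H.n_conj_D, H.n_conj_E]
  exact mul_mem (H.D_mem _) (mul_mem (H.D_mem _) (H.E_mem _))

theorem w_conj_T {t : X} (ht : t ∈ H.T) : H.w⁻¹ * t * H.w ∈ H.T := by
  obtain ⟨b, c, rfl⟩ := ht
  rw [show H.w⁻¹ * (H.D b * H.E c) * H.w = (H.w⁻¹ * H.D b * H.w) * (H.w⁻¹ * H.E c * H.w) by group,
    H.w_E, show H.w⁻¹ * H.E c * H.w = H.D c by rw [Base.E]; group]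
  exact mul_mem (H.E_mem _) (H.D_mem _)

theorem g_conj_T (r : Root) {t : X} (ht : t ∈ H.T) : (H.g r)⁻¹ * t * H.g r ∈ H.T := by
  have h1 := H.n_conj_T ht
  have h2 := H.w_conj_T ht
  obtain ⟨k, b⟩ := r
  fin_cases k <;> cases b <;> simp only [g] <;> try simpa using ht
  · exact h1
  · exact h2
  · have := H.n_conj_T h2; simpa [mul_assoc] using this
  · exact h1
  · have := H.w_conj_T h1; simpa [mul_assoc] using this
  · exact h2

theorem permutes_T {t : X} (ht : t ∈ H.T) : H.Permutes t :=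
  H.permutes_of_step id (fun _ => rfl)
    (fun r => ⟨_, H.T_nor r (H.g_conj_T r (inv_mem ht)), by simp [mul_assoc]⟩) (fun _ => rfl)

theorem n_inv : H.n⁻¹ = H.n * H.D (-1) := by
  refine inv_eq_of_mul_eq_one_right ?_
  rw [← mul_assoc, H.n_sq, H.D_mul, neg_mul_neg, one_mul, H.D_one]

theorem permutes_n : H.Permutes H.n := by
  have hD := H.D_mem (-1)
  have hw2 := H.w2_mem
  refine H.permutes_of_step (fun r => (![0, 1, 3, 2] r.1, if r.1 = 0 then !r.2 else r.2)) ?_ ?_ ?_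
  · rintro ⟨k, b⟩; fin_cases k <;> cases b <;> rfl
  · rintro ⟨k, b⟩
    fin_cases k <;> cases b
    · refine ⟨H.D (-1), H.T_nor_A hD, ?_⟩
      show H.n⁻¹ * 1 = H.n * H.D (-1)
      rw [mul_one, n_inv]
    · exact ⟨1, one_mem _, by show H.n⁻¹ * H.n = 1 * 1; group⟩
    · exact ⟨_, inv_mem H.nor_kA, by show H.n⁻¹ * H.w = H.w * (H.w⁻¹ * H.n * H.w)⁻¹; group⟩
    · refine ⟨H.n⁻¹ * (H.w⁻¹ * H.n * H.w)⁻¹ * H.n, ?_, by
        show H.n⁻¹ * (H.w * H.n) = H.w * H.n * _; group⟩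
      set k := H.w⁻¹ * H.n * H.w with hk
      have e : k * H.n = (H.w * H.w)⁻¹ * (H.n * (H.w * H.w) * H.n⁻¹) * (H.n * k) := by
        rw [hk]
        calc H.w⁻¹ * H.n * H.w * H.n = (H.w * H.w)⁻¹ * (H.w * H.n * H.w * H.n) := by group
          _ = (H.w * H.w)⁻¹ * (H.n * H.w * H.n * H.w) := by rw [H.braid']
          _ = _ := by group
      have ht : (H.w * H.w)⁻¹ * (H.n * (H.w * H.w) * H.n⁻¹) ∈ H.T := mul_mem (inv_mem hw2) (H.n_T hw2)
      have : H.n⁻¹ * k * H.n ∈ Nor H.RA := by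
        rw [show H.n⁻¹ * k * H.n = H.n⁻¹ * (k * H.n) by group, e,
          show H.n⁻¹ * ((H.w * H.w)⁻¹ * (H.n * (H.w * H.w) * H.n⁻¹) * (H.n * k)) =
          (H.n⁻¹ * ((H.w * H.w)⁻¹ * (H.n * (H.w * H.w) * H.n⁻¹)) * H.n) * k by group]
        exact mul_mem (H.T_nor_A (H.n_conj_T ht)) H.nor_kA
      rw [show H.n⁻¹ * k⁻¹ * H.n = (H.n⁻¹ * k * H.n)⁻¹ by group]
      exact inv_mem this
    · exact ⟨1, one_mem _, by show H.n⁻¹ * H.n = 1 * 1; group⟩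
    · exact ⟨1, one_mem _, by show H.n⁻¹ * (H.n * H.w) = H.w * 1; group⟩
    · exact ⟨_, H.T_nor_L hD, by show H.n⁻¹ * 1 = H.n * H.D (-1); rw [mul_one, n_inv]⟩
    · refine ⟨_, H.T_nor_L (H.w_conj_T hD), ?_⟩
      show H.n⁻¹ * H.w = H.n * H.w * (H.w⁻¹ * H.D (-1) * H.w)
      rw [n_inv]; group
  · rintro ⟨k, b⟩; fin_cases k <;> cases b <;> rfl

theorem permutes_w : H.Permutes H.w := by
  have hw2 := H.w2_mem
  refine H.permutes_of_step (fun r => (![1, 0, 2, 3] r.1, if r.1 = 3 then !r.2 else r.2)) ?_ ?_ ?_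
  · rintro ⟨k, b⟩; fin_cases k <;> cases b <;> rfl
  · rintro ⟨k, b⟩
    fin_cases k <;> cases b
    · exact ⟨_, H.T_nor_A (inv_mem hw2),
        by show H.w⁻¹ * 1 = H.w * (H.w * H.w)⁻¹; group⟩
    · refine ⟨_, H.T_nor_A (H.n_conj_T (inv_mem hw2)), ?_⟩
      show H.w⁻¹ * H.n = H.w * H.n * (H.n⁻¹ * (H.w * H.w)⁻¹ * H.n)
      group
    · exact ⟨1, one_mem _, by show H.w⁻¹ * H.w = 1 * 1; group⟩
    · exact ⟨1, one_mem _, by show H.w⁻¹ * (H.w * H.n) = H.n * 1; group⟩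
    · refine ⟨_, inv_mem H.nor_kL, ?_⟩
      show H.w⁻¹ * H.n = H.n * (H.n⁻¹ * H.w * H.n)⁻¹
      group
    · refine ⟨(H.n⁻¹ * H.w * H.n)⁻¹, inv_mem H.nor_kL, ?_⟩
      show H.w⁻¹ * (H.n * H.w) = H.n * H.w * (H.n⁻¹ * H.w * H.n)⁻¹
      have hc : Commute H.w (H.n⁻¹ * H.w * H.n) := by
        have hDw : Commute H.w (H.n * H.n) := by rw [H.n_sq]; exact H.wD_neg
        show H.w * (H.n⁻¹ * H.w * H.n) = H.n⁻¹ * H.w * H.n * H.w
        calc H.w * (H.n⁻¹ * H.w * H.n) = H.w * (H.n * H.n)⁻¹ * (H.n * H.w * H.n) := by group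
          _ = (H.n * H.n)⁻¹ * H.w * (H.n * H.w * H.n) := by rw [hDw.inv_right.eq]
          _ = (H.n * H.n)⁻¹ * (H.w * H.n * H.w * H.n) := by group
          _ = (H.n * H.n)⁻¹ * (H.n * H.w * H.n * H.w) := by rw [H.braid']
          _ = _ := by group
      rw [show H.n * H.w * (H.n⁻¹ * H.w * H.n)⁻¹ = H.n * (H.w * (H.n⁻¹ * H.w * H.n)⁻¹) by group,
        hc.inv_right.eq]
      group
    · exact ⟨_, H.T_nor_L (inv_mem hw2), by show H.w⁻¹ * 1 = H.w * (H.w * H.w)⁻¹; group⟩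
    · exact ⟨1, one_mem _, by show H.w⁻¹ * H.w = 1 * 1; group⟩
  · rintro ⟨k, b⟩; fin_cases k <;> cases b <;> rfl

theorem permutes_M {m : X} (hm : m ∈ H.M) : H.Permutes m := by
  obtain ⟨t, ht, i, rfl⟩ := H.M_form hm
  refine H.permutes_mul (H.permutes_T ht) ?_
  have h1 : H.Permutes 1 := H.permutes_T (one_mem _)
  have hn := H.permutes_n
  have hw := H.permutes_w
  have h2 := H.permutes_mul hn hw
  have h3 := H.permutes_mul hw hn
  fin_cases i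
  exacts [h1, hn, hw, h2, h3, H.permutes_mul h2 hn, H.permutes_mul h3 hw,
    H.permutes_mul (H.permutes_mul h2 hn) hw]

end Data

end CfsgLib.Pres.SU.Four
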