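import Cfsg.Agent.Lib.Pres.SU.Four.Main

/-!
The map to the matrix group is surjective: elimination.
-/

set_option autoImplicit false

namespace CfsgLib.Pres.SU.Four

open Matrix CfsgLib.Classical CfsgLib.Classical.Unitary CfsgLib.Steinberg.R1Data
open scoped MatrixGroups commutatorElement

variable {F : Type*} [Field F] [Finite F] {σ : F →+* F}

/-- The entries of the defining equation. -/
theorem form_entry (g : HU σ) (i j : Fin 4) :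
    g.1.1 0 i * σ (g.1.1 2 j) + g.1.1 1 i * σ (g.1.1 3 j) + g.1.1 2 i * σ (g.1.1 0 j) +
      g.1.1 3 i * σ (g.1.1 1 j) = J F i j := by
  have e : (g.1.1ᵀ * J F * g.1.1.map σ) i j = J F i j := by rw [g.2]
  rw [← e]
  simp [J, Matrix.mul_apply, Fin.sum_univ_four]
  ring

namespace Data

variable {X : Type*} [Group X] {ε : F} {ω ξ y₀ : Fˣ} (H : Data σ ε ω ξ y₀ X)

theorem π_dn (t : F) :
    (H.π (H.φ (dn t))).1.1 = !![1, 0, 0, 0; t, 1, 0, 0; 0, 0, 1, -σ t; 0, 0, 0, 1] := by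
  rw [H.πφ]
  show phiMat σ (dn t) = _
  ext i j; fin_cases i <;> fin_cases j <;> simp [phiMat]

theorem π_w_inv :
    (H.π H.w⁻¹).1.1 = !![1, 0, 0, 0; 0, 0, 0, -ε; 0, 0, 1, 0; 0, ε⁻¹, 0, 0] := by
  have e : (H.π H.w).1.1 * (H.π H.w⁻¹).1.1 = 1 := by
    rw [← π_mul, mul_inv_cancel, map_one]; rfl
  let W : Matrix (Fin 4) (Fin 4) F := !![1, 0, 0, 0; 0, 0, 0, -ε; 0, 0, 1, 0; 0, ε⁻¹, 0, 0]
  have hW : W * (H.π H.w).1.1 = 1 := by
    rw [π_w]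
    ext i j; fin_cases i <;> fin_cases j <;> simp [W, Matrix.mul_apply, Fin.sum_univ_four, H.hε0]
  exact (left_inv_eq_right_inv hW e).symm

theorem π_n_inv :
    (H.π H.n⁻¹).1.1 = !![0, -1, 0, 0; 1, 0, 0, 0; 0, 0, 0, -1; 0, 0, 1, 0] := by
  have e : (H.π H.n).1.1 * (H.π H.n⁻¹).1.1 = 1 := by
    rw [← π_mul, mul_inv_cancel, map_one]; rfl
  let W : Matrix (Fin 4) (Fin 4) F := !![0, -1, 0, 0; 1, 0, 0, 0; 0, 0, 0, -1; 0, 0, 1, 0]
  have hW : W * (H.π H.n).1.1 = 1 := by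
    rw [π_n]
    ext i j; fin_cases i <;> fin_cases j <;> simp [W, Matrix.mul_apply, Fin.sum_univ_four]
  exact (left_inv_eq_right_inv hW e).symm

theorem red {g : HU σ} (x : X) (h : H.π x * g ∈ H.π.range) : g ∈ H.π.range := by
  have := mul_mem (inv_mem (⟨x, rfl⟩ : H.π x ∈ H.π.range)) h
  rwa [inv_mul_cancel_left] at this

omit [Finite F] in
theorem entry (x : X) (g : HU σ) (i j : Fin 4) :
    (H.π x * g).1.1 i j = (H.π x).1.1 i 0 * g.1.1 0 j + (H.π x).1.1 i 1 * g.1.1 1 j +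
      (H.π x).1.1 i 2 * g.1.1 2 j + (H.π x).1.1 i 3 * g.1.1 3 j := by
  show ((H.π x).1.1 * g.1.1) i j = _
  rw [Matrix.mul_apply, Fin.sum_univ_four]

/-- The first column is the first basis vector. -/
def Col0 (g : HU σ) : Prop :=
  g.1.1 0 0 = 1 ∧ g.1.1 1 0 = 0 ∧ g.1.1 2 0 = 0 ∧ g.1.1 3 0 = 0

theorem row2 {g : HU σ} (h : Col0 g) :
    g.1.1 2 1 = 0 ∧ g.1.1 2 2 = 1 ∧ g.1.1 2 3 = 0 := by
  obtain ⟨h0, h1, h2, h3⟩ := h
  have e1 := form_entry g 1 0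
  have e2 := form_entry g 2 0
  have e3 := form_entry g 3 0
  simp [h0, h1, h2, h3, J] at e1 e2 e3
  exact ⟨e1, e2, e3⟩

/-- The first two columns are basis vectors, up to one entry. -/
def Col1 (g : HU σ) : Prop := Col0 g ∧ g.1.1 1 1 = 1 ∧ g.1.1 3 1 = 0

theorem col33 {g : HU σ} (h : Col1 g) : g.1.1 3 3 = 1 := by
  obtain ⟨h0, h11, h31⟩ := h
  obtain ⟨r1, r2, r3⟩ := row2 h0
  obtain ⟨a0, a1, a2, a3⟩ := h0
  have e := form_entry g 3 1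
  simp [h11, h31, r1, r3, J] at e
  exact e

theorem finish {g : HU σ} (h : Col1 g) (h01 : g.1.1 0 1 = 0) (h13 : g.1.1 1 3 = 0)
    (h03 : g.1.1 0 3 = 0) (h02 : g.1.1 0 2 = 0) : g ∈ H.π.range := by
  have h33 := col33 h
  obtain ⟨h0, h11, h31⟩ := h
  obtain ⟨r1, r2, r3⟩ := row2 h0
  obtain ⟨a0, a1, a2, a3⟩ := h0
  have e12 := form_entry g 1 2
  have e32 := form_entry g 3 2
  simp [a0, a1, a2, a3, h11, h31, r1, r2, r3, h01, h13, h03, h02, h33, J] at e12 e32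
  have : g = 1 := hu_ext (by
    ext i j
    show g.1.1 i j = (1 : Matrix (Fin 4) (Fin 4) F) i j
    fin_cases i <;> fin_cases j <;>
      simp [a0, a1, a2, a3, h11, h31, r1, r2, r3, h01, h13, h03, h02, h33, e12, e32])
  rw [this]
  exact one_mem _

theorem stage5 {g : HU σ} (h : Col1 g) (h01 : g.1.1 0 1 = 0) (h13 : g.1.1 1 3 = 0)
    (h03 : g.1.1 0 3 = 0) : g ∈ H.π.range := by
  have h33 := col33 h
  obtain ⟨h0, h11, h31⟩ := h
  obtain ⟨r1, r2, r3⟩ := row2 h0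
  obtain ⟨a0, a1, a2, a3⟩ := h0
  have e12 := form_entry g 1 2
  simp [a0, a1, a2, a3, h11, h31, r1, r2, r3, h01, J] at e12
  have e22 := form_entry g 2 2
  simp [r2, e12, J] at e22
  have hm : σ (-(g.1.1 0 2) / ε) = -(g.1.1 0 2) / ε := by
    rw [map_div₀, map_neg, H.hε, show σ (g.1.1 0 2) = -g.1.1 0 2 by linear_combination e22]
    field_simp
  refine H.red (H.Mr (-(g.1.1 0 2) / ε)) (H.finish ?_ ?_ ?_ ?_ ?_)
  · refine ⟨⟨?_, ?_, ?_, ?_⟩, ?_, ?_⟩ <;>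
      (rw [entry]; simp [H.π_Mr hm, a0, a1, a2, a3, h11, h31])
  all_goals (rw [entry]; simp [H.π_Mr hm, a0, a1, a2, a3, h11, h31, r1, r2, r3, h01, h13, h03, H.hε0])

theorem stage4 {g : HU σ} (h : Col1 g) (h01 : g.1.1 0 1 = 0) (h13 : g.1.1 1 3 = 0) :
    g ∈ H.π.range := by
  have h33 := col33 h
  obtain ⟨h0, h11, h31⟩ := h
  obtain ⟨r1, r2, r3⟩ := row2 h0
  obtain ⟨a0, a1, a2, a3⟩ := h0
  refine H.red (H.B (g.1.1 0 3 / ε)) (H.stage5 ?_ ?_ ?_ ?_)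
  · refine ⟨⟨?_, ?_, ?_, ?_⟩, ?_, ?_⟩ <;> (rw [entry]; simp [H.π_B, a0, a1, a2, a3, h11, h31, r1])
  all_goals (rw [entry]; simp [H.π_B, a0, a1, a2, a3, h11, h31, r1, r2, r3, h01, h13, h33, H.hε0])

theorem stage3 {g : HU σ} (h : Col1 g) (h01 : g.1.1 0 1 = 0) : g ∈ H.π.range := by
  have h33 := col33 h
  obtain ⟨h0, h11, h31⟩ := h
  obtain ⟨r1, r2, r3⟩ := row2 h0
  obtain ⟨a0, a1, a2, a3⟩ := h0
  have e33 := form_entry g 3 3
  simp [r3, h33, J] at e33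
  have hl : σ (-(g.1.1 1 3) / ε) = -(g.1.1 1 3) / ε := by
    rw [map_div₀, map_neg, H.hε, show σ (g.1.1 1 3) = -g.1.1 1 3 by linear_combination e33]
    field_simp
  refine H.red (H.v (-(g.1.1 1 3) / ε)) (H.stage4 ?_ ?_ ?_)
  · refine ⟨⟨?_, ?_, ?_, ?_⟩, ?_, ?_⟩ <;> (rw [entry]; simp [H.π_v hl, a0, a1, a2, a3, h11, h31])
  all_goals (rw [entry]; simp [H.π_v hl, a0, a1, a2, a3, h11, h31, h01, h33, H.hε0])

theorem stage2 {g : HU σ} (h : Col1 g) : g ∈ H.π.range := by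
  obtain ⟨h0, h11, h31⟩ := h
  obtain ⟨r1, r2, r3⟩ := row2 h0
  obtain ⟨a0, a1, a2, a3⟩ := h0
  refine H.red (H.A (-(g.1.1 0 1))) (H.stage3 ?_ ?_)
  · refine ⟨⟨?_, ?_, ?_, ?_⟩, ?_, ?_⟩ <;> (rw [entry]; simp [H.π_A, a0, a1, a2, a3, h11, h31, r1])
  · (rw [entry]; simp [H.π_A, h11])

theorem stage1 {g : HU σ} (h : Col0 g) (h11 : g.1.1 1 1 ≠ 0) : g ∈ H.π.range := by
  obtain ⟨r1, r2, r3⟩ := row2 h
  obtain ⟨a0, a1, a2, a3⟩ := h
  have e11 := form_entry g 1 1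
  simp [r1, J] at e11
  have ha : σ (ε * g.1.1 3 1 / g.1.1 1 1) = ε * g.1.1 3 1 / g.1.1 1 1 := by
    rw [map_div₀, map_mul, H.hε, div_eq_div_iff ((_root_.map_ne_zero σ).2 h11) h11]
    linear_combination (-ε) * e11
  refine H.red (H.w * H.v (ε * g.1.1 3 1 / g.1.1 1 1) * H.w⁻¹) ?_
  obtain ⟨g', hg'⟩ : ∃ g', g' = H.π (H.w * H.v (ε * g.1.1 3 1 / g.1.1 1 1) * H.w⁻¹) * g := ⟨_, rfl⟩
  rw [← hg']
  have key : Col0 g' ∧ g'.1.1 1 1 = g.1.1 1 1 ∧ g'.1.1 3 1 = 0 := by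
    refine ⟨⟨?_, ?_, ?_, ?_⟩, ?_, ?_⟩ <;>
      (rw [hg', entry, π_mul, π_mul, π_w_inv]; simp [H.π_v ha, π_w, π_w_inv, a0, a1, a2, a3, H.hε0, Matrix.mul_apply,
        Fin.sum_univ_four])
    field_simp [H.hε0]
    ring
  clear hg' e11 ha
  obtain ⟨k0, k11, k31⟩ := key
  obtain ⟨q1, q2, q3⟩ := row2 k0
  rw [← k11] at h11
  clear k11 g r1 r2 r3 a0 a1 a2 a3
  obtain ⟨b0, b1, b2, b3⟩ := k0
  have e13 := form_entry g' 1 3
  simp [b0, k31, q1, q3, J] at e13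
  have hd := g'.1.2
  rw [Matrix.det_succ_column_zero, Fin.sum_univ_four, b1, b2, b3] at hd
  simp [b0, Matrix.det_fin_three, q1, q2, q3, k31] at hd
  have hfix : σ (g'.1.1 1 1) = g'.1.1 1 1 := by
    have h33 : σ (g'.1.1 3 3) ≠ 0 := right_ne_zero_of_mul_eq_one e13
    have e13' := congrArg σ e13
    rw [map_mul, H.hσ, map_one] at e13'
    have h33' : g'.1.1 3 3 ≠ 0 := fun e => h33 (by rw [e, map_zero])
    exact mul_right_cancel₀ h33' (by rw [e13', hd])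
  obtain ⟨c, hc⟩ := H.hN _ hfix h11
  have hπ : (H.π (H.D c * H.E c⁻¹)).1.1 =
      diagonal ![1, (g'.1.1 1 1)⁻¹, 1, g'.1.1 1 1] := by
    rw [π_mul, H.π_D, H.π_E, diagonal_mul_diagonal]
    congr 1
    funext i
    fin_cases i <;> simp [← hc, map_inv₀, mul_comm]
  refine H.red (H.D c * H.E c⁻¹) (H.stage2 ⟨⟨?_, ?_, ?_, ?_⟩, ?_, ?_⟩) <;>
    (rw [entry, hπ]; simp [b0, b1, b2, b3, k31, h11])

theorem stage0 {g : HU σ} (h : Col0 g) : g ∈ H.π.range := by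
  by_cases h11 : g.1.1 1 1 = 0
  · obtain ⟨r1, r2, r3⟩ := row2 h
    obtain ⟨a0, a1, a2, a3⟩ := h
    have e13 := form_entry g 1 3
    simp [h11, r1, r3, J] at e13
    have h31 : g.1.1 3 1 ≠ 0 := left_ne_zero_of_mul_eq_one e13
    refine H.red H.w (H.stage1 ⟨?_, ?_, ?_, ?_⟩ ?_) <;>
      (rw [entry]; simp [π_w, a0, a1, a2, a3, h31, H.hε0])
  · exact H.stage1 h h11

theorem col_zero {g : HU σ} (h0 : g.1.1 0 0 ≠ 0) : g ∈ H.π.range := by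
  -- clear the second entry
  refine H.red (H.φ (dn (-(g.1.1 1 0) / g.1.1 0 0))) ?_
  obtain ⟨g1, hg1⟩ : ∃ g1, g1 = H.π (H.φ (dn (-(g.1.1 1 0) / g.1.1 0 0))) * g := ⟨_, rfl⟩
  rw [← hg1]
  have k1 : g1.1.1 0 0 ≠ 0 ∧ g1.1.1 1 0 = 0 := by
    constructor <;> (rw [hg1, entry]; simp [π_dn, h0])
  clear hg1 h0 g
  obtain ⟨h0, h1⟩ := k1
  -- clear the fourth entry
  refine H.red (H.w * H.φ (dn (ε * g1.1.1 3 0 / g1.1.1 0 0)) * H.w⁻¹) ?_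
  obtain ⟨g2, hg2⟩ : ∃ g2, g2 =
      H.π (H.w * H.φ (dn (ε * g1.1.1 3 0 / g1.1.1 0 0)) * H.w⁻¹) * g1 := ⟨_, rfl⟩
  rw [← hg2]
  have k2 : g2.1.1 0 0 ≠ 0 ∧ g2.1.1 1 0 = 0 ∧ g2.1.1 3 0 = 0 := by
    refine ⟨?_, ?_, ?_⟩ <;>
      (rw [hg2, entry, π_mul, π_mul, π_w_inv]; simp [π_dn, π_w, π_w_inv, h0, h1, H.hε0, Matrix.mul_apply,
        Fin.sum_univ_four]) <;>
      (have hε : ε ≠ 0 := H.hε0
       revert h0
       generalize g1.1.1 3 0 = x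
       generalize g1.1.1 0 0 = y
       intro h0
       field_simp
       ring)
  clear hg2 h0 h1 g1
  obtain ⟨h0, h1, h3⟩ := k2
  -- clear the third entry
  have e00 := form_entry g2 0 0
  simp [h1, h3, J] at e00
  have ha : σ (ε * g2.1.1 2 0 / g2.1.1 0 0) = ε * g2.1.1 2 0 / g2.1.1 0 0 := by
    rw [map_div₀, map_mul, H.hε, div_eq_div_iff ((_root_.map_ne_zero σ).2 h0) h0]
    linear_combination (-ε) * e00
  refine H.red (H.n * H.w * H.v (ε * g2.1.1 2 0 / g2.1.1 0 0) * H.w⁻¹ * H.n⁻¹) ?_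
  obtain ⟨g3, hg3⟩ : ∃ g3, g3 =
      H.π (H.n * H.w * H.v (ε * g2.1.1 2 0 / g2.1.1 0 0) * H.w⁻¹ * H.n⁻¹) * g2 := ⟨_, rfl⟩
  rw [← hg3]
  have k3 : g3.1.1 0 0 ≠ 0 ∧ g3.1.1 1 0 = 0 ∧ g3.1.1 2 0 = 0 ∧ g3.1.1 3 0 = 0 := by
    refine ⟨?_, ?_, ?_, ?_⟩ <;>
      (rw [hg3, entry, π_mul, π_mul, π_mul, π_mul, π_w_inv, π_n_inv]; simp [H.π_v ha, π_w, π_w_inv, π_n, π_n_inv, h0, h1, h3, H.hε0,
        Matrix.mul_apply, Fin.sum_univ_four]) <;>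
      (have hε : ε ≠ 0 := H.hε0
       revert h0
       generalize g2.1.1 2 0 = x
       generalize g2.1.1 0 0 = y
       intro h0
       field_simp
       ring)
  clear hg3 ha e00 h0 h1 h3 g2
  obtain ⟨h0, h1, h2, h3⟩ := k3
  refine H.red (H.D (Units.mk0 _ h0)⁻¹) (H.stage0 ⟨?_, ?_, ?_, ?_⟩) <;>
    (rw [entry]; simp [H.π_D, h0, h1, h2, h3])

theorem π_surjective : Function.Surjective H.π := by
  intro g
  refine MonoidHom.mem_range.1 ?_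
  by_cases h0 : g.1.1 0 0 = 0
  swap
  · exact H.col_zero h0
  by_cases h1 : g.1.1 1 0 = 0
  swap
  · exact H.red H.n (H.col_zero (by (rw [entry]; simp [π_n, h1])))
  by_cases h3 : g.1.1 3 0 = 0
  swap
  · exact H.red (H.n * H.w) (H.col_zero (by
      (rw [entry]; simp [π_mul, π_n, π_w, h0, h3, H.hε0, Matrix.mul_apply, Fin.sum_univ_four])))
  refine H.red (H.n * H.w * H.n) (H.col_zero ?_)
  have h2 : g.1.1 2 0 ≠ 0 := fun h2 => by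
    have hd := g.1.2
    rw [Matrix.det_eq_zero_of_column_eq_zero 0 fun i => by fin_cases i <;> assumption] at hd
    exact zero_ne_one hd
  (rw [entry]; simp [π_mul, π_n, π_w, h2, H.hε0, Matrix.mul_apply, Fin.sum_univ_four])

theorem π_bijective
    (hgen : Subgroup.closure (Set.range H.φ ∪ {H.w} ∪ H.v '' {a | σ a = a}) = ⊤) :
    Function.Bijective H.π :=
  ⟨H.π_injective hgen, H.π_surjective⟩

end Data

end CfsgLib.Pres.SU.Four
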